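import Cfsg.Agent.H35.TCMain
import Cfsg.Prelude.Def_Spor_Fi22

/-!
# The presentation of Fi22 as word lists (helper35; generated)
-/

set_option autoImplicit false
set_option linter.unusedSimpArgs false

namespace Cfsg.Agent.H35

open Cfsg.Spor

noncomputable def fi22_gi : Fi22.Gen → ℕ := fun x => Fi22.Gen.rec (motive := fun _ => ℕ) 0 1 2 3 4 5 6 7 8 x
def fi22_gens : List Fi22.Gen := [.a, .b, .c, .d, .e, .f, .g, .h, .i]
def fi22_xs : List (List Fi22.Gen × List Fi22.Gen) := []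
def fi22_prels : List (List Fi22.Gen × ℕ × ℕ) := [
  ([.d, .c, .b, .d, .e, .f, .d, .h, .i], 10, 11),
  ([.a, .b, .c, .d, .e, .f, .h], 9, 12),
  ([.b, .c, .d, .e, .f, .g, .h], 9, 13)]
def fi22_rws : List (List Fi22.Gen × List Fi22.Gen) := [
  ([.a], [.a]),
  ([.a, .b, .a], [.b, .a, .b]),
  ([.a, .c], [.c, .a]),
  ([.a, .d], [.d, .a]),
  ([.a, .e], [.e, .a]),
  ([.a, .f], [.f, .a]),
  ([.a, .g], [.g, .a]),
  ([.a, .h], [.h, .a]),
  ([.a, .i], [.i, .a]),
  ([.b, .a, .b], [.a, .b, .a]),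
  ([.b], [.b]),
  ([.b, .c, .b], [.c, .b, .c]),
  ([.b, .d], [.d, .b]),
  ([.b, .e], [.e, .b]),
  ([.b, .f], [.f, .b]),
  ([.b, .g], [.g, .b]),
  ([.b, .h], [.h, .b]),
  ([.b, .i], [.i, .b]),
  ([.c, .a], [.a, .c]),
  ([.c, .b, .c], [.b, .c, .b]),
  ([.c], [.c]),
  ([.c, .d, .c], [.d, .c, .d]),
  ([.c, .e], [.e, .c]),
  ([.c, .f], [.f, .c]),
  ([.c, .g], [.g, .c]),
  ([.c, .h], [.h, .c]),
  ([.c, .i], [.i, .c]),
  ([.d, .a], [.a, .d]),
  ([.d, .b], [.b, .d]),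
  ([.d, .c, .d], [.c, .d, .c]),
  ([.d], [.d]),
  ([.d, .e, .d], [.e, .d, .e]),
  ([.d, .f], [.f, .d]),
  ([.d, .g], [.g, .d]),
  ([.d, .h, .d], [.h, .d, .h]),
  ([.d, .i], [.i, .d]),
  ([.e, .a], [.a, .e]),
  ([.e, .b], [.b, .e]),
  ([.e, .c], [.c, .e]),
  ([.e, .d, .e], [.d, .e, .d]),
  ([.e], [.e]),
  ([.e, .f, .e], [.f, .e, .f]),
  ([.e, .g], [.g, .e]),
  ([.e, .h], [.h, .e]),
  ([.e, .i], [.i, .e]),
  ([.f, .a], [.a, .f]),
  ([.f, .b], [.b, .f]),
  ([.f, .c], [.c, .f]),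
  ([.f, .d], [.d, .f]),
  ([.f, .e, .f], [.e, .f, .e]),
  ([.f], [.f]),
  ([.f, .g, .f], [.g, .f, .g]),
  ([.f, .h], [.h, .f]),
  ([.f, .i], [.i, .f]),
  ([.g, .a], [.a, .g]),
  ([.g, .b], [.b, .g]),
  ([.g, .c], [.c, .g]),
  ([.g, .d], [.d, .g]),
  ([.g, .e], [.e, .g]),
  ([.g, .f, .g], [.f, .g, .f]),
  ([.g], [.g]),
  ([.g, .h], [.h, .g]),
  ([.g, .i], [.i, .g]),
  ([.h, .a], [.a, .h]),
  ([.h, .b], [.b, .h]),
  ([.h, .c], [.c, .h]),
  ([.h, .d, .h], [.d, .h, .d]),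
  ([.h, .e], [.e, .h]),
  ([.h, .f], [.f, .h]),
  ([.h, .g], [.g, .h]),
  ([.h], [.h]),
  ([.h, .i, .h], [.i, .h, .i]),
  ([.i, .a], [.a, .i]),
  ([.i, .b], [.b, .i]),
  ([.i, .c], [.c, .i]),
  ([.i, .d], [.d, .i]),
  ([.i, .e], [.e, .i]),
  ([.i, .f], [.f, .i]),
  ([.i, .g], [.g, .i]),
  ([.i, .h, .i], [.h, .i, .h]),
  ([.i], [.i])]

theorem fi22_rws_eq : fi22_rws = coxSplits fi22_gens (coxLabel Fi22.edges) ++ fi22_xs := by
  decide

/-- generator of a field index -/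
def fi22_gof : ℕ → Fi22.Gen := fun i => fi22_gens.getD i .a

theorem fi22_gof_gi (x : Fi22.Gen) : fi22_gof (fi22_gi x) = x := by cases x <;> rfl

theorem fi22_gens_all (x : Fi22.Gen) : x ∈ fi22_gens := by cases x <;> decide

theorem fi22_nodes_all (x : Fi22.Gen) : x ∈ coxNodes Fi22.edges := by cases x <;> decide

/-- the generators of the presented group -/
def fi22_gen (x : Fi22.Gen) : Fi22 := PresentedGroup.of x

theorem fi22_gen_eq (x : Fi22.Gen) :
    fi22_gen x = PresentedGroup.mk (coxRelators Fi22.edges ∪ {r | r ∈ Fi22.extra}) (FreeGroup.of x) := rfl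

theorem fi22_sat_of_list {K : Type*} [Group K] (f : Fi22.Gen → K) (hf : ∀ x, f x * f x = 1)
    (h1 : ∀ r ∈ fi22_rws, uw f (r.1 ++ r.2.reverse) = 1)
    (h2 : ∀ r ∈ fi22_prels, uw f r.1 ^ r.2.1 = 1) : CoxSat Fi22.edges Fi22.extra f := by
  rw [fi22_rws_eq] at h1
  have hi : ∀ x, (f x)⁻¹ = f x := fun x => inv_of_sq (hf x)
  constructor
  · intro x y
    exact cox_of_splits f fi22_gens _ (fun r hr => h1 r (List.mem_append_left _ hr)) x y
      (fi22_gens_all x) (fi22_gens_all y)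
  · intro r hr
    delta Fi22.extra at hr
    simp only [List.mem_cons, List.not_mem_nil, or_false] at hr
    simp only [fi22_prels, List.forall_mem_cons, List.not_mem_nil, false_imp_iff, implies_true, and_true, uw_eq, List.map, List.prod_cons, List.prod_nil, mul_one] at h2
    obtain ⟨p0, p1, p2⟩ := h2
    rcases hr with rfl | rfl | rfl
    · simpa only [map_mul, map_pow, FreeGroup.lift_apply_of, mul_assoc] using p0
    · simpa only [map_mul, map_pow, FreeGroup.lift_apply_of, mul_assoc] using p1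
    · simpa only [map_mul, map_pow, FreeGroup.lift_apply_of, mul_assoc] using p2

theorem fi22_list_of_sat {K : Type*} [Group K] (f : Fi22.Gen → K)
    (h : CoxSat Fi22.edges Fi22.extra f) :
    (∀ r ∈ fi22_rws, uw f (r.1 ++ r.2.reverse) = 1) ∧
      (∀ r ∈ fi22_prels, uw f r.1 ^ r.2.1 = 1) := by
  have hi : ∀ x, (f x)⁻¹ = f x := fun x => inv_of_sq (coxSat_inv _ _ f h x)
  obtain ⟨hc, hx⟩ := h
  delta Fi22.extra at hx
  simp only [List.forall_mem_cons, List.not_mem_nil, false_imp_iff, implies_true, and_true, map_mul, map_inv, map_pow, FreeGroup.lift_apply_of] at hx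
  obtain ⟨e0, e1, e2⟩ := hx
  constructor
  · rw [fi22_rws_eq]
    intro r hr
    rw [List.mem_append] at hr
    rcases hr with hr | hr
    · exact splits_of_cox f fi22_gens _ hc r hr
    · simp [fi22_xs] at hr
  · simp only [fi22_prels, List.forall_mem_cons, List.not_mem_nil, false_imp_iff, implies_true, and_true, uw_eq, List.map, List.prod_cons, List.prod_nil, mul_one]
    refine ⟨?_, ?_, ?_⟩
    · simpa only [map_mul, map_pow, FreeGroup.lift_apply_of, mul_assoc] using e0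
    · simpa only [map_mul, map_pow, FreeGroup.lift_apply_of, mul_assoc] using e1
    · simpa only [map_mul, map_pow, FreeGroup.lift_apply_of, mul_assoc] using e2

theorem fi22_sat : CoxSat Fi22.edges Fi22.extra fi22_gen := cox_relG _ _ fi22_nodes_all

theorem fi22_inv (x : Fi22.Gen) : fi22_gen x * fi22_gen x = 1 := coxSat_inv _ _ _ fi22_sat x

theorem fi22_full_one : ∀ w ∈ fullW fi22_rws fi22_prels, uw fi22_gen w = 1 :=
  fullW_one _ _ _ (fi22_list_of_sat _ fi22_sat).1 (fi22_list_of_sat _ fi22_sat).2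

theorem fi22_UP {K : Type*} [Group K] (f : Fi22.Gen → K) (hf : ∀ x, f x * f x = 1)
    (h1 : ∀ r ∈ fi22_rws, uw f (r.1 ++ r.2.reverse) = 1)
    (h2 : ∀ r ∈ fi22_prels, uw f r.1 ^ r.2.1 = 1) :
    ∃ φ : Fi22 →* K, ∀ x, φ (fi22_gen x) = f x :=
  cox_UP _ _ f (fi22_sat_of_list f hf h1 h2)

theorem fi22_closure : Subgroup.closure (Set.range fi22_gen) = ⊤ :=
  PresentedGroup.closure_range_of _

end Cfsg.Agent.H35
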