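import Cfsg.Agent.H35.TCMain
import Cfsg.Prelude.Def_Spor_Fi23

/-!
# The presentation of Fi23 as word lists (helper35; generated)
-/

set_option autoImplicit false
set_option linter.unusedSimpArgs false

namespace Cfsg.Agent.H35

open Cfsg.Spor

noncomputable def fi23_gi : Fi23.Gen → ℕ := fun x => Fi23.Gen.rec (motive := fun _ => ℕ) 0 1 2 3 4 5 6 7 8 9 x
def fi23_gens : List Fi23.Gen := [.a, .b, .c, .d, .e, .f, .g, .j, .h, .i]
def fi23_xs : List (List Fi23.Gen × List Fi23.Gen) := []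
def fi23_prels : List (List Fi23.Gen × ℕ × ℕ) := [
  ([.d, .c, .b, .d, .e, .f, .d, .h, .i], 10, 12),
  ([.a, .b, .c, .d, .e, .f, .h], 9, 13)]
def fi23_rws : List (List Fi23.Gen × List Fi23.Gen) := [
  ([.a], [.a]),
  ([.a, .b, .a], [.b, .a, .b]),
  ([.a, .c], [.c, .a]),
  ([.a, .d], [.d, .a]),
  ([.a, .e], [.e, .a]),
  ([.a, .f], [.f, .a]),
  ([.a, .g], [.g, .a]),
  ([.a, .j], [.j, .a]),
  ([.a, .h], [.h, .a]),
  ([.a, .i], [.i, .a]),
  ([.b, .a, .b], [.a, .b, .a]),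
  ([.b], [.b]),
  ([.b, .c, .b], [.c, .b, .c]),
  ([.b, .d], [.d, .b]),
  ([.b, .e], [.e, .b]),
  ([.b, .f], [.f, .b]),
  ([.b, .g], [.g, .b]),
  ([.b, .j], [.j, .b]),
  ([.b, .h], [.h, .b]),
  ([.b, .i], [.i, .b]),
  ([.c, .a], [.a, .c]),
  ([.c, .b, .c], [.b, .c, .b]),
  ([.c], [.c]),
  ([.c, .d, .c], [.d, .c, .d]),
  ([.c, .e], [.e, .c]),
  ([.c, .f], [.f, .c]),
  ([.c, .g], [.g, .c]),
  ([.c, .j], [.j, .c]),
  ([.c, .h], [.h, .c]),
  ([.c, .i], [.i, .c]),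
  ([.d, .a], [.a, .d]),
  ([.d, .b], [.b, .d]),
  ([.d, .c, .d], [.c, .d, .c]),
  ([.d], [.d]),
  ([.d, .e, .d], [.e, .d, .e]),
  ([.d, .f], [.f, .d]),
  ([.d, .g], [.g, .d]),
  ([.d, .j], [.j, .d]),
  ([.d, .h, .d], [.h, .d, .h]),
  ([.d, .i], [.i, .d]),
  ([.e, .a], [.a, .e]),
  ([.e, .b], [.b, .e]),
  ([.e, .c], [.c, .e]),
  ([.e, .d, .e], [.d, .e, .d]),
  ([.e], [.e]),
  ([.e, .f, .e], [.f, .e, .f]),
  ([.e, .g], [.g, .e]),
  ([.e, .j], [.j, .e]),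
  ([.e, .h], [.h, .e]),
  ([.e, .i], [.i, .e]),
  ([.f, .a], [.a, .f]),
  ([.f, .b], [.b, .f]),
  ([.f, .c], [.c, .f]),
  ([.f, .d], [.d, .f]),
  ([.f, .e, .f], [.e, .f, .e]),
  ([.f], [.f]),
  ([.f, .g, .f], [.g, .f, .g]),
  ([.f, .j], [.j, .f]),
  ([.f, .h], [.h, .f]),
  ([.f, .i], [.i, .f]),
  ([.g, .a], [.a, .g]),
  ([.g, .b], [.b, .g]),
  ([.g, .c], [.c, .g]),
  ([.g, .d], [.d, .g]),
  ([.g, .e], [.e, .g]),
  ([.g, .f, .g], [.f, .g, .f]),
  ([.g], [.g]),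
  ([.g, .j, .g], [.j, .g, .j]),
  ([.g, .h], [.h, .g]),
  ([.g, .i], [.i, .g]),
  ([.j, .a], [.a, .j]),
  ([.j, .b], [.b, .j]),
  ([.j, .c], [.c, .j]),
  ([.j, .d], [.d, .j]),
  ([.j, .e], [.e, .j]),
  ([.j, .f], [.f, .j]),
  ([.j, .g, .j], [.g, .j, .g]),
  ([.j], [.j]),
  ([.j, .h], [.h, .j]),
  ([.j, .i], [.i, .j]),
  ([.h, .a], [.a, .h]),
  ([.h, .b], [.b, .h]),
  ([.h, .c], [.c, .h]),
  ([.h, .d, .h], [.d, .h, .d]),
  ([.h, .e], [.e, .h]),
  ([.h, .f], [.f, .h]),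
  ([.h, .g], [.g, .h]),
  ([.h, .j], [.j, .h]),
  ([.h], [.h]),
  ([.h, .i, .h], [.i, .h, .i]),
  ([.i, .a], [.a, .i]),
  ([.i, .b], [.b, .i]),
  ([.i, .c], [.c, .i]),
  ([.i, .d], [.d, .i]),
  ([.i, .e], [.e, .i]),
  ([.i, .f], [.f, .i]),
  ([.i, .g], [.g, .i]),
  ([.i, .j], [.j, .i]),
  ([.i, .h, .i], [.h, .i, .h]),
  ([.i], [.i])]

theorem fi23_rws_eq : fi23_rws = coxSplits fi23_gens (coxLabel Fi23.edges) ++ fi23_xs := by
  decide

/-- generator of a field index -/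
def fi23_gof : ℕ → Fi23.Gen := fun i => fi23_gens.getD i .a

theorem fi23_gof_gi (x : Fi23.Gen) : fi23_gof (fi23_gi x) = x := by cases x <;> rfl

theorem fi23_gens_all (x : Fi23.Gen) : x ∈ fi23_gens := by cases x <;> decide

theorem fi23_nodes_all (x : Fi23.Gen) : x ∈ coxNodes Fi23.edges := by cases x <;> decide

/-- the generators of the presented group -/
def fi23_gen (x : Fi23.Gen) : Fi23 := PresentedGroup.of x

theorem fi23_gen_eq (x : Fi23.Gen) :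
    fi23_gen x = PresentedGroup.mk (coxRelators Fi23.edges ∪ {r | r ∈ Fi23.extra}) (FreeGroup.of x) := rfl

theorem fi23_sat_of_list {K : Type*} [Group K] (f : Fi23.Gen → K) (hf : ∀ x, f x * f x = 1)
    (h1 : ∀ r ∈ fi23_rws, uw f (r.1 ++ r.2.reverse) = 1)
    (h2 : ∀ r ∈ fi23_prels, uw f r.1 ^ r.2.1 = 1) : CoxSat Fi23.edges Fi23.extra f := by
  rw [fi23_rws_eq] at h1
  have hi : ∀ x, (f x)⁻¹ = f x := fun x => inv_of_sq (hf x)
  constructor
  · intro x y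
    exact cox_of_splits f fi23_gens _ (fun r hr => h1 r (List.mem_append_left _ hr)) x y
      (fi23_gens_all x) (fi23_gens_all y)
  · intro r hr
    delta Fi23.extra at hr
    simp only [List.mem_cons, List.not_mem_nil, or_false] at hr
    simp only [fi23_prels, List.forall_mem_cons, List.not_mem_nil, false_imp_iff, implies_true, and_true, uw_eq, List.map, List.prod_cons, List.prod_nil, mul_one] at h2
    obtain ⟨p0, p1⟩ := h2
    rcases hr with rfl | rfl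
    · simpa only [map_mul, map_pow, FreeGroup.lift_apply_of, mul_assoc] using p0
    · simpa only [map_mul, map_pow, FreeGroup.lift_apply_of, mul_assoc] using p1

theorem fi23_list_of_sat {K : Type*} [Group K] (f : Fi23.Gen → K)
    (h : CoxSat Fi23.edges Fi23.extra f) :
    (∀ r ∈ fi23_rws, uw f (r.1 ++ r.2.reverse) = 1) ∧
      (∀ r ∈ fi23_prels, uw f r.1 ^ r.2.1 = 1) := by
  have hi : ∀ x, (f x)⁻¹ = f x := fun x => inv_of_sq (coxSat_inv _ _ f h x)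
  obtain ⟨hc, hx⟩ := h
  delta Fi23.extra at hx
  simp only [List.forall_mem_cons, List.not_mem_nil, false_imp_iff, implies_true, and_true, map_mul, map_inv, map_pow, FreeGroup.lift_apply_of] at hx
  obtain ⟨e0, e1⟩ := hx
  constructor
  · rw [fi23_rws_eq]
    intro r hr
    rw [List.mem_append] at hr
    rcases hr with hr | hr
    · exact splits_of_cox f fi23_gens _ hc r hr
    · simp [fi23_xs] at hr
  · simp only [fi23_prels, List.forall_mem_cons, List.not_mem_nil, false_imp_iff, implies_true, and_true, uw_eq, List.map, List.prod_cons, List.prod_nil, mul_one]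
    refine ⟨?_, ?_⟩
    · simpa only [map_mul, map_pow, FreeGroup.lift_apply_of, mul_assoc] using e0
    · simpa only [map_mul, map_pow, FreeGroup.lift_apply_of, mul_assoc] using e1

theorem fi23_sat : CoxSat Fi23.edges Fi23.extra fi23_gen := cox_relG _ _ fi23_nodes_all

theorem fi23_inv (x : Fi23.Gen) : fi23_gen x * fi23_gen x = 1 := coxSat_inv _ _ _ fi23_sat x

theorem fi23_full_one : ∀ w ∈ fullW fi23_rws fi23_prels, uw fi23_gen w = 1 :=
  fullW_one _ _ _ (fi23_list_of_sat _ fi23_sat).1 (fi23_list_of_sat _ fi23_sat).2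

theorem fi23_UP {K : Type*} [Group K] (f : Fi23.Gen → K) (hf : ∀ x, f x * f x = 1)
    (h1 : ∀ r ∈ fi23_rws, uw f (r.1 ++ r.2.reverse) = 1)
    (h2 : ∀ r ∈ fi23_prels, uw f r.1 ^ r.2.1 = 1) :
    ∃ φ : Fi23 →* K, ∀ x, φ (fi23_gen x) = f x :=
  cox_UP _ _ f (fi23_sat_of_list f hf h1 h2)

theorem fi23_closure : Subgroup.closure (Set.range fi23_gen) = ⊤ :=
  PresentedGroup.closure_range_of _

end Cfsg.Agent.H35
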