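import Cfsg.Agent.H35.TCMain
import Cfsg.Prelude.Def_Spor_He

/-!
# The presentation of He as word lists (helper35; generated)
-/

set_option autoImplicit false
set_option linter.unusedSimpArgs false

namespace Cfsg.Agent.H35

open Cfsg.Spor

noncomputable def he_gi : He.Gen → ℕ := fun x => He.Gen.rec (motive := fun _ => ℕ) 0 1 2 3 4 5 6 x
def he_gens : List He.Gen := [.a, .b, .c, .d, .e, .f, .g]
def he_xs : List (List He.Gen × List He.Gen) := [([.e, .g, .f], [.f, .g]), ([.e, .c, .b, .a, .c], [.a, .b, .c, .a, .b]), ([.a, .d, .c, .d, .c, .d], [.c, .d, .c, .d, .c])]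
def he_prels : List (List He.Gen × ℕ × ℕ) := [
  ([.c, .d, .f, .g], 4, 9)]
def he_rws : List (List He.Gen × List He.Gen) := [
  ([.a], [.a]),
  ([.a, .b, .a, .b], [.b, .a, .b, .a]),
  ([.a, .c], [.c, .a]),
  ([.a, .d], [.d, .a]),
  ([.a, .e], [.e, .a]),
  ([.a, .f], [.f, .a]),
  ([.a, .g], [.g, .a]),
  ([.b, .a, .b, .a], [.a, .b, .a, .b]),
  ([.b], [.b]),
  ([.b, .c, .b], [.c, .b, .c]),
  ([.b, .d], [.d, .b]),
  ([.b, .e], [.e, .b]),
  ([.b, .f], [.f, .b]),
  ([.b, .g], [.g, .b]),
  ([.c, .a], [.a, .c]),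
  ([.c, .b, .c], [.b, .c, .b]),
  ([.c], [.c]),
  ([.c, .d, .c, .d, .c, .d, .c, .d, .c, .d], [.d, .c, .d, .c, .d, .c, .d, .c, .d, .c]),
  ([.c, .e], [.e, .c]),
  ([.c, .f], [.f, .c]),
  ([.c, .g], [.g, .c]),
  ([.d, .a], [.a, .d]),
  ([.d, .b], [.b, .d]),
  ([.d, .c, .d, .c, .d, .c, .d, .c, .d, .c], [.c, .d, .c, .d, .c, .d, .c, .d, .c, .d]),
  ([.d], [.d]),
  ([.d, .e, .d], [.e, .d, .e]),
  ([.d, .f, .d], [.f, .d, .f]),
  ([.d, .g, .d], [.g, .d, .g]),
  ([.e, .a], [.a, .e]),
  ([.e, .b], [.b, .e]),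
  ([.e, .c], [.c, .e]),
  ([.e, .d, .e], [.d, .e, .d]),
  ([.e], [.e]),
  ([.e, .f], [.f, .e]),
  ([.e, .g], [.g, .e]),
  ([.f, .a], [.a, .f]),
  ([.f, .b], [.b, .f]),
  ([.f, .c], [.c, .f]),
  ([.f, .d, .f], [.d, .f, .d]),
  ([.f, .e], [.e, .f]),
  ([.f], [.f]),
  ([.f, .g, .f, .g], [.g, .f, .g, .f]),
  ([.g, .a], [.a, .g]),
  ([.g, .b], [.b, .g]),
  ([.g, .c], [.c, .g]),
  ([.g, .d, .g], [.d, .g, .d]),
  ([.g, .e], [.e, .g]),
  ([.g, .f, .g, .f], [.f, .g, .f, .g]),
  ([.g], [.g]),
  ([.e, .g, .f], [.f, .g]),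
  ([.e, .c, .b, .a, .c], [.a, .b, .c, .a, .b]),
  ([.a, .d, .c, .d, .c, .d], [.c, .d, .c, .d, .c])]

theorem he_rws_eq : he_rws = coxSplits he_gens (coxLabel He.edges) ++ he_xs := by
  decide

/-- generator of a field index -/
def he_gof : ℕ → He.Gen := fun i => he_gens.getD i .a

theorem he_gof_gi (x : He.Gen) : he_gof (he_gi x) = x := by cases x <;> rfl

theorem he_gens_all (x : He.Gen) : x ∈ he_gens := by cases x <;> decide

theorem he_nodes_all (x : He.Gen) : x ∈ coxNodes He.edges := by cases x <;> decide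

/-- the generators of the presented group -/
def he_gen (x : He.Gen) : He := PresentedGroup.of x

theorem he_gen_eq (x : He.Gen) :
    he_gen x = PresentedGroup.mk (coxRelators He.edges ∪ {r | r ∈ He.extra}) (FreeGroup.of x) := rfl

theorem he_sat_of_list {K : Type*} [Group K] (f : He.Gen → K) (hf : ∀ x, f x * f x = 1)
    (h1 : ∀ r ∈ he_rws, uw f (r.1 ++ r.2.reverse) = 1)
    (h2 : ∀ r ∈ he_prels, uw f r.1 ^ r.2.1 = 1) : CoxSat He.edges He.extra f := by
  rw [he_rws_eq] at h1
  have hi : ∀ x, (f x)⁻¹ = f x := fun x => inv_of_sq (hf x)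
  constructor
  · intro x y
    exact cox_of_splits f he_gens _ (fun r hr => h1 r (List.mem_append_left _ hr)) x y
      (he_gens_all x) (he_gens_all y)
  · intro r hr
    delta He.extra at hr
    simp only [List.mem_cons, List.not_mem_nil, or_false] at hr
    have hx : ∀ r ∈ he_xs, uw f (r.1 ++ r.2.reverse) = 1 :=
      fun r hr => h1 r (List.mem_append_right _ hr)
    simp only [he_xs, List.forall_mem_cons, List.not_mem_nil, false_imp_iff, implies_true, and_true, uw_eq, List.reverse_cons, List.reverse_nil, List.nil_append, List.cons_append, List.append_nil, List.map, List.prod_cons, List.prod_nil, mul_one, mul_assoc] at hx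
    obtain ⟨x0, x1, x2⟩ := hx
    simp only [he_prels, List.forall_mem_cons, List.not_mem_nil, false_imp_iff, implies_true, and_true, uw_eq, List.map, List.prod_cons, List.prod_nil, mul_one] at h2
    have p0 := h2
    rcases hr with rfl | rfl | rfl | rfl
    · simpa only [map_mul, map_inv, map_pow, FreeGroup.lift_apply_of, mul_inv_rev, hi, pow_succ, pow_zero, one_mul, mul_assoc] using x0
    · simpa only [map_mul, map_inv, map_pow, FreeGroup.lift_apply_of, mul_inv_rev, hi, pow_succ, pow_zero, one_mul, mul_assoc] using x1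
    · simpa only [map_mul, map_inv, map_pow, FreeGroup.lift_apply_of, mul_inv_rev, hi, pow_succ, pow_zero, one_mul, mul_assoc] using x2
    · simpa only [map_mul, map_pow, FreeGroup.lift_apply_of, mul_assoc] using p0

theorem he_list_of_sat {K : Type*} [Group K] (f : He.Gen → K)
    (h : CoxSat He.edges He.extra f) :
    (∀ r ∈ he_rws, uw f (r.1 ++ r.2.reverse) = 1) ∧
      (∀ r ∈ he_prels, uw f r.1 ^ r.2.1 = 1) := by
  have hi : ∀ x, (f x)⁻¹ = f x := fun x => inv_of_sq (coxSat_inv _ _ f h x)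
  obtain ⟨hc, hx⟩ := h
  delta He.extra at hx
  simp only [List.forall_mem_cons, List.not_mem_nil, false_imp_iff, implies_true, and_true, map_mul, map_inv, map_pow, FreeGroup.lift_apply_of] at hx
  obtain ⟨e0, e1, e2, e3⟩ := hx
  constructor
  · rw [he_rws_eq]
    intro r hr
    rw [List.mem_append] at hr
    rcases hr with hr | hr
    · exact splits_of_cox f he_gens _ hc r hr
    · revert r
      simp only [he_xs, List.forall_mem_cons, List.not_mem_nil, false_imp_iff, implies_true, and_true, uw_eq, List.reverse_cons, List.reverse_nil, List.nil_append, List.cons_append, List.append_nil, List.map, List.prod_cons, List.prod_nil, mul_one, mul_assoc]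
      refine ⟨?_, ?_, ?_⟩
      · simpa only [map_mul, map_inv, map_pow, FreeGroup.lift_apply_of, mul_inv_rev, hi, pow_succ, pow_zero, one_mul, mul_assoc] using e0
      · simpa only [map_mul, map_inv, map_pow, FreeGroup.lift_apply_of, mul_inv_rev, hi, pow_succ, pow_zero, one_mul, mul_assoc] using e1
      · simpa only [map_mul, map_inv, map_pow, FreeGroup.lift_apply_of, mul_inv_rev, hi, pow_succ, pow_zero, one_mul, mul_assoc] using e2
  · simp only [he_prels, List.forall_mem_cons, List.not_mem_nil, false_imp_iff, implies_true, and_true, uw_eq, List.map, List.prod_cons, List.prod_nil, mul_one]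
    · simpa only [map_mul, map_pow, FreeGroup.lift_apply_of, mul_assoc] using e3

theorem he_sat : CoxSat He.edges He.extra he_gen := cox_relG _ _ he_nodes_all

theorem he_inv (x : He.Gen) : he_gen x * he_gen x = 1 := coxSat_inv _ _ _ he_sat x

theorem he_full_one : ∀ w ∈ fullW he_rws he_prels, uw he_gen w = 1 :=
  fullW_one _ _ _ (he_list_of_sat _ he_sat).1 (he_list_of_sat _ he_sat).2

theorem he_UP {K : Type*} [Group K] (f : He.Gen → K) (hf : ∀ x, f x * f x = 1)
    (h1 : ∀ r ∈ he_rws, uw f (r.1 ++ r.2.reverse) = 1)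
    (h2 : ∀ r ∈ he_prels, uw f r.1 ^ r.2.1 = 1) :
    ∃ φ : He →* K, ∀ x, φ (he_gen x) = f x :=
  cox_UP _ _ f (he_sat_of_list f hf h1 h2)

theorem he_closure : Subgroup.closure (Set.range he_gen) = ⊤ :=
  PresentedGroup.closure_range_of _

end Cfsg.Agent.H35
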