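import Mathlib

/-!
# Kernel-friendly building blocks for coset-table certificates (helper35)

* `nd`, `lf`: binary search tries keyed by natural numbers (closed terms, so that
  evaluation never substitutes under a big body);
* `allR`: balanced "for all `i` in a range" loop, `cntR`: balanced counting loop;
* `fld`: fixed-width fields packed into one natural number.
-/

set_option autoImplicit false

namespace Cfsg.Agent.H35

/-- Binary search trie node: keys `< m` go left, keys `≥ m` go right. -/
noncomputable def nd {α : Type} (m : ℕ) (L R : ℕ → α) (n : ℕ) : α :=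
  Bool.rec (motive := fun _ => α) (L n) (R n) (Nat.ble m n)

/-- Trie leaf. -/
def lf {α : Type} (v : α) (_n : ℕ) : α := v

theorem ble_false_of {a b : ℕ} (h : ¬ a ≤ b) : Nat.ble a b = false := by
  rw [Bool.eq_false_iff]; intro h'; rw [Nat.ble_eq] at h'; exact h h'

theorem ble_true_of {a b : ℕ} (h : a ≤ b) : Nat.ble a b = true := by
  rw [Nat.ble_eq]; exact h

/-- A table that is `0` outside `[0, M)`. -/
noncomputable def wrapRow (M : ℕ) (t : ℕ → ℕ) (p : ℕ) : ℕ :=
  Bool.rec (motive := fun _ => ℕ) 0 (t p) (Nat.ble (Nat.succ p) M)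

theorem wrapRow_of_le (M : ℕ) (t : ℕ → ℕ) (p : ℕ) (h : M ≤ p) : wrapRow M t p = 0 := by
  unfold wrapRow
  have : Nat.ble (Nat.succ p) M = false := ble_false_of (by omega)
  rw [this]

/-- `allR f M d lo`: `f` holds on `[lo, lo + 2^d) ∩ [0, M)`. -/
def allR (f : ℕ → Bool) (M : ℕ) : ℕ → ℕ → Bool
  | 0, lo => if Nat.ble (Nat.succ lo) M then f lo else true
  | d + 1, lo =>
    if Nat.ble (Nat.succ lo) M then
      (if allR f M d lo then allR f M d (lo + 2 ^ d) else false)
    else true

theorem allR_sound (f : ℕ → Bool) (M : ℕ) : ∀ (d lo : ℕ), allR f M d lo = true →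
    ∀ i, lo ≤ i → i < lo + 2 ^ d → i < M → f i = true
  | 0, lo, h, i, h1, h2, h3 => by
    have hi : i = lo := by simp at h2; omega
    subst hi
    unfold allR at h
    have : Nat.ble (Nat.succ i) M = true := ble_true_of (by omega)
    rw [this] at h
    simpa using h
  | d + 1, lo, h, i, h1, h2, h3 => by
    unfold allR at h
    have : Nat.ble (Nat.succ lo) M = true := ble_true_of (by omega)
    rw [this] at h
    simp only [if_true] at h
    by_cases hl : allR f M d lo = true
    · rw [hl] at h
      simp only [if_true] at h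
      by_cases hi : i < lo + 2 ^ d
      · exact allR_sound f M d lo hl i h1 hi h3
      · refine allR_sound f M d (lo + 2 ^ d) h i (by omega) ?_ h3
        have : 2 ^ (d + 1) = 2 ^ d + 2 ^ d := by rw [pow_succ]; omega
        omega
    · simp only [Bool.not_eq_true] at hl
      rw [hl] at h
      simp at h

/-- `cntR f M d lo`: number of `i ∈ [lo, lo + 2^d) ∩ [0, M)` with `f i`. -/
def cntR (f : ℕ → Bool) (M : ℕ) : ℕ → ℕ → ℕ
  | 0, lo => if Nat.ble (Nat.succ lo) M then (if f lo then 1 else 0) else 0
  | d + 1, lo =>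
    if Nat.ble (Nat.succ lo) M then Nat.add (cntR f M d lo) (cntR f M d (lo + 2 ^ d)) else 0

theorem cntR_eq (f : ℕ → Bool) (M : ℕ) : ∀ (d lo : ℕ),
    cntR f M d lo = ((Finset.Ico lo (lo + 2 ^ d)).filter (fun i => i < M ∧ f i = true)).card
  | 0, lo => by
    unfold cntR
    have hI : Finset.Ico lo (lo + 2 ^ 0) = {lo} := by
      ext i; simp
    rw [hI, Finset.filter_singleton]
    by_cases hlo : lo < M
    · have : Nat.ble (Nat.succ lo) M = true := ble_true_of (by omega)
      rw [this]
      by_cases hf : f lo = true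
      · simp [hf, hlo]
      · simp [hf]
    · have : Nat.ble (Nat.succ lo) M = false := ble_false_of (by omega)
      rw [this]
      simp [hlo]
  | d + 1, lo => by
    unfold cntR
    have hp : 2 ^ (d + 1) = 2 ^ d + 2 ^ d := by rw [pow_succ]; omega
    by_cases hlo : lo < M
    · have : Nat.ble (Nat.succ lo) M = true := ble_true_of (by omega)
      rw [this]
      simp only [if_true]
      rw [cntR_eq f M d lo, cntR_eq f M d (lo + 2 ^ d)]
      have hU : Finset.Ico lo (lo + 2 ^ (d + 1)) =
          Finset.Ico lo (lo + 2 ^ d) ∪ Finset.Ico (lo + 2 ^ d) (lo + 2 ^ d + 2 ^ d) := by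
        have h2 : 0 < 2 ^ d := Nat.two_pow_pos d
        rw [Finset.Ico_union_Ico_eq_Ico (by omega) (by omega)]
        congr 1; omega
      rw [hU, Finset.filter_union, Nat.add_eq]
      rw [Finset.card_union_of_disjoint]
      apply Finset.disjoint_filter_filter
      exact Finset.Ico_disjoint_Ico_consecutive _ _ _
    · have : Nat.ble (Nat.succ lo) M = false := ble_false_of (by omega)
      rw [this]
      simp only [Bool.false_eq_true, if_false]
      symm
      rw [Finset.card_eq_zero, Finset.filter_eq_empty_iff]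
      intro i hi
      simp only [Finset.mem_Ico] at hi
      omega

/-- Counting over `[0, M)` when `M ≤ 2^d`. -/
theorem cntR_card (f : ℕ → Bool) (M d : ℕ) (hM : M ≤ 2 ^ d) :
    cntR f M d 0 = ((Finset.range M).filter (fun i => f i = true)).card := by
  rw [cntR_eq]
  congr 1
  ext i
  simp only [Finset.mem_filter, Finset.mem_Ico, Finset.mem_range]
  constructor
  · rintro ⟨_, h2, h3⟩; exact ⟨h2, h3⟩
  · rintro ⟨h2, h3⟩; exact ⟨⟨Nat.zero_le _, by omega⟩, h2, h3⟩

theorem allR_all (f : ℕ → Bool) (M d : ℕ) (hM : M ≤ 2 ^ d) (h : allR f M d 0 = true) :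
    ∀ i, i < M → f i = true :=
  fun i hi => allR_sound f M d 0 h i (Nat.zero_le _) (by omega) hi

/-- Combining block checks. -/
theorem allR_blocks (f : ℕ → Bool) (M d nb : ℕ)
    (h : ∀ k, k < nb → allR f M d (k * 2 ^ d) = true) (hM : M ≤ nb * 2 ^ d) :
    ∀ i, i < M → f i = true := by
  intro i hi
  have h2 : 0 < 2 ^ d := Nat.two_pow_pos d
  have hk : i / 2 ^ d < nb := by
    rw [Nat.div_lt_iff_lt_mul h2]; omega
  refine allR_sound f M d _ (h _ hk) i (Nat.div_mul_le_self i (2 ^ d)) ?_ hi
  have := Nat.lt_div_mul_add (a := i) h2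
  omega

/-- `k`-th field of width `w` of a packed number. -/
def fld (w : ℕ) (r : ℕ) (k : ℕ) : ℕ :=
  Nat.land (Nat.shiftRight r (Nat.mul w k)) (Nat.sub (Nat.pow 2 w) 1)

theorem fld_zero (w k : ℕ) : fld w 0 k = 0 := by
  unfold fld
  show (0 >>> (w * k)) &&& (2 ^ w - 1) = 0
  simp

end Cfsg.Agent.H35
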