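import Mathlib
import Cfsg.Agent.H52.SpDefs
import Cfsg.Agent.H59.SoConj

/-!
# SP-LE (S2944 team project, helper52/helper66): `N_G(K) ≤ N_G(W_K)`

helper35.  `W_K` is canonical in `K` (helper59's `wOf_map_conj`).
-/

set_option autoImplicit false

universe u

namespace Cfsg.Agent.H35.Sp

open Cfsg Cfsg.Agent.H52.Sn

theorem le : StLE.{u} := by
  intro G _ _ K n hn
  have h1 : K.map (MulAut.conj n).toMonoidHom = K :=
    Subgroup.mem_normalizer_iff_map_conj_eq.mp hn
  have h2 := Cfsg.Agent.H59.So.wOf_map_conj n K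
  rw [h1] at h2
  exact Subgroup.mem_normalizer_iff_map_conj_eq.mpr h2.symm

end Cfsg.Agent.H35.Sp

namespace Cfsg.Agent.H35.SpLECheck

example : Cfsg.Agent.H52.Sn.StLE.{u} := Cfsg.Agent.H35.Sp.le

end Cfsg.Agent.H35.SpLECheck
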