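import Mathlib
import Cfsg.Agent.H83.AbIdxDefs

set_option autoImplicit false

/-!
# Piece BTWO of S4463 (helper35, for helper83)

A Frobenius-type quotient is not a `2`-group with `[G : N] = 2`.
-/

open Cfsg Cfsg.Agent.H83.AbIdx

universe u

namespace Cfsg.Agent.H35.AbIdx

theorem bTwo : StmtBTwo.{u} := by
  intro G _ _ K N _ _ m hKN hne hmax hfix hidx hrel
  have hKidx : K.index = 2 ^ (m + 1) := by
    rw [← Subgroup.relIndex_mul_index hKN, hidx, hrel, pow_succ]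
  have hcard : Nat.card (G ⧸ K) = 2 ^ (m + 1) := by
    rw [← Subgroup.index_eq_card]
    exact hKidx
  have hp : IsPGroup 2 (G ⧸ K) := IsPGroup.of_card hcard
  have hnt : Nontrivial (G ⧸ K) := by
    rw [← Finite.one_lt_card_iff_nontrivial, hcard]
    exact Nat.one_lt_two_pow (by omega)
  have hcen : Nontrivial (Subgroup.center (G ⧸ K)) := hp.center_nontrivial
  obtain ⟨⟨zbar, hz⟩, hz1⟩ := exists_ne (1 : Subgroup.center (G ⧸ K))
  obtain ⟨z, rfl⟩ := QuotientGroup.mk_surjective zbar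
  obtain ⟨Z, hZ⟩ : ∃ Z : Subgroup G,
      Z = (Subgroup.center (G ⧸ K)).comap (QuotientGroup.mk' K) := ⟨_, rfl⟩
  have hZn : Z.Normal := by
    rw [hZ]
    infer_instance
  have hKZ : K ≤ Z := by
    intro k hk
    rw [hZ, Subgroup.mem_comap]
    have h1 : (QuotientGroup.mk' K) k = 1 := (QuotientGroup.eq_one_iff k).2 hk
    rw [h1]
    exact Subgroup.one_mem _
  have hZK : Z ≠ K := by
    intro h
    have hzZ : z ∈ Z := by
      rw [hZ, Subgroup.mem_comap]
      exact hz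
    rw [h] at hzZ
    apply hz1
    apply Subtype.ext
    exact (QuotientGroup.eq_one_iff z).2 hzZ
  have hNZ : N ≤ Z := hmax Z hZn hKZ hZK
  apply hne
  apply le_antisymm hKN
  intro n hn
  apply hfix n hn
  intro g
  have hnZ : (QuotientGroup.mk' K) n ∈ Subgroup.center (G ⧸ K) := by
    have h1 := hNZ hn
    rw [hZ, Subgroup.mem_comap] at h1
    exact h1
  rw [Subgroup.mem_center_iff] at hnZ
  have h1 : (g : G ⧸ K) * (n : G ⧸ K) = (n : G ⧸ K) * (g : G ⧸ K) := hnZ (g : G ⧸ K)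
  rw [← QuotientGroup.eq_one_iff]
  have h2 : ((g * n * g⁻¹ * n⁻¹ : G) : G ⧸ K)
      = (g : G ⧸ K) * (n : G ⧸ K) * (g : G ⧸ K)⁻¹ * (n : G ⧸ K)⁻¹ := rfl
  rw [h2, h1]
  group

end Cfsg.Agent.H35.AbIdx

namespace Cfsg.Agent.H35.AbIdxBTwoCheck

example : Cfsg.Agent.H83.AbIdx.StmtBTwo.{u} := Cfsg.Agent.H35.AbIdx.bTwo

end Cfsg.Agent.H35.AbIdxBTwoCheck
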