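import Mathlib

/-!
# Abstract coset-enumeration facts (helper35)

Group-theoretic core of the coset-table certificate checker:
* a finite family of cosets containing the trivial coset and closed under a generating set is everything;
* a transitive action on a finite set in which `H` fixes a point and `|G/H| ≤ |Ω|` identifies `G ⧸ H` with `Ω`.
-/

set_option autoImplicit false

namespace Cfsg.Agent.H35

open MulAction

section Upper

variable {G : Type*} [Group G] (H : Subgroup G)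

/-- A set of cosets containing the trivial coset and closed under a generating set and its inverses is
everything. -/
theorem coset_set_eq_univ (S : Set G) (hS : Subgroup.closure S = ⊤)
    (C : Set (G ⧸ H)) (h1 : ((1 : G) : G ⧸ H) ∈ C)
    (hC : ∀ s ∈ S, ∀ κ ∈ C, s • κ ∈ C) (hC' : ∀ s ∈ S, ∀ κ ∈ C, s⁻¹ • κ ∈ C) : C = Set.univ := by
  have key : ∀ g : G, (∀ κ ∈ C, g • κ ∈ C) ∧ (∀ κ ∈ C, g⁻¹ • κ ∈ C) := by
    intro g
    have hg : g ∈ Subgroup.closure S := by rw [hS]; trivial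
    induction hg using Subgroup.closure_induction with
    | mem x hx => exact ⟨hC x hx, hC' x hx⟩
    | one => simp
    | mul x y _ _ hx hy =>
      refine ⟨fun κ hκ => ?_, fun κ hκ => ?_⟩
      · rw [mul_smul]; exact hx.1 _ (hy.1 _ hκ)
      · rw [mul_inv_rev, mul_smul]; exact hy.2 _ (hx.2 _ hκ)
    | inv x _ hx => exact ⟨hx.2, by simpa using hx.1⟩
  ext κ
  simp only [Set.mem_univ, iff_true]
  induction κ using QuotientGroup.induction_on with
  | H g =>
    have h2 := (key g).1 _ h1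
    rw [MulAction.Quotient.smul_coe] at h2
    simpa using h2

/-- Upper bound for the number of cosets from a finite closed family. -/
theorem card_quotient_le (S : Set G) (hS : Subgroup.closure S = ⊤)
    {ι : Type*} (L : Finset ι) (c : ι → G ⧸ H) (i0 : ι) (hi0 : i0 ∈ L) (hc0 : c i0 = ((1 : G) : G ⧸ H))
    (hC : ∀ s ∈ S, ∀ i ∈ L, ∃ j ∈ L, s • c i = c j)
    (hC' : ∀ s ∈ S, ∀ i ∈ L, ∃ j ∈ L, s⁻¹ • c i = c j) :
    Finite (G ⧸ H) ∧ Nat.card (G ⧸ H) ≤ L.card := by
  classical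
  have hU : c '' (L : Set ι) = Set.univ := by
    apply coset_set_eq_univ H S hS
    · exact ⟨i0, hi0, hc0⟩
    · rintro s hs _ ⟨i, hi, rfl⟩
      obtain ⟨j, hj, e⟩ := hC s hs i hi
      exact ⟨j, hj, e.symm⟩
    · rintro s hs _ ⟨i, hi, rfl⟩
      obtain ⟨j, hj, e⟩ := hC' s hs i hi
      exact ⟨j, hj, e.symm⟩
  have hfin : (Set.univ : Set (G ⧸ H)).Finite := by
    rw [← hU]; exact (L.finite_toSet).image c
  have hF : Finite (G ⧸ H) := Set.finite_univ_iff.mp hfin
  refine ⟨hF, ?_⟩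
  have h3 : Nat.card (G ⧸ H) = (c '' (L : Set ι)).ncard := by
    rw [hU, Set.ncard_univ]
  rw [h3]
  calc (c '' (L : Set ι)).ncard ≤ (L : Set ι).ncard := Set.ncard_image_le (L.finite_toSet)
    _ = L.card := Set.ncard_coe_finset L

end Upper

section Lower

variable {G : Type*} [Group G] (H : Subgroup G)
variable {Ω : Type*} [Fintype Ω] (ρ : G →* Equiv.Perm Ω) (ω0 : Ω)

/-- The stabiliser of `ω0` under the action given by `ρ`. -/
def stabOf : Subgroup G where
  carrier := {g | ρ g ω0 = ω0}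
  one_mem' := by simp
  mul_mem' := by
    intro a b ha hb
    simp only [Set.mem_ofPred_eq] at ha hb ⊢
    rw [map_mul, Equiv.Perm.mul_apply, hb, ha]
  inv_mem' := by
    intro a ha
    simp only [Set.mem_ofPred_eq] at ha ⊢
    rw [map_inv, Equiv.Perm.inv_eq_iff_eq, ha]

omit [Fintype Ω] in
theorem mem_stabOf (g : G) : g ∈ stabOf ρ ω0 ↔ ρ g ω0 = ω0 := Iff.rfl

/-- The orbit map `G ⧸ stabOf → Ω`. -/
def orbMap : G ⧸ stabOf ρ ω0 → Ω :=
  Quotient.lift (fun g : G => ρ g ω0) (by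
    intro a b hab
    have h : a⁻¹ * b ∈ stabOf ρ ω0 := QuotientGroup.leftRel_apply.mp hab
    rw [mem_stabOf, map_mul, map_inv, Equiv.Perm.mul_apply, Equiv.Perm.inv_eq_iff_eq] at h
    exact h.symm)

theorem orbMap_mk (g : G) : orbMap ρ ω0 (g : G ⧸ stabOf ρ ω0) = ρ g ω0 := rfl

theorem orbMap_injective : Function.Injective (orbMap ρ ω0) := by
  intro a b
  induction a using QuotientGroup.induction_on with
  | H a =>
    induction b using QuotientGroup.induction_on with
    | H b =>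
      intro h
      rw [orbMap_mk, orbMap_mk] at h
      apply QuotientGroup.eq.mpr
      rw [mem_stabOf, map_mul, map_inv, Equiv.Perm.mul_apply, Equiv.Perm.inv_eq_iff_eq]
      exact h.symm

theorem orbMap_surjective (htrans : ∀ ω : Ω, ∃ g : G, ρ g ω0 = ω) :
    Function.Surjective (orbMap ρ ω0) := by
  intro ω
  obtain ⟨g, hg⟩ := htrans ω
  exact ⟨(g : G ⧸ stabOf ρ ω0), hg⟩

theorem orbMap_smul (g : G) (q : G ⧸ stabOf ρ ω0) : orbMap ρ ω0 (g • q) = ρ g (orbMap ρ ω0 q) := by
  induction q using QuotientGroup.induction_on with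
  | H a =>
    rw [MulAction.Quotient.smul_coe, orbMap_mk, orbMap_mk, smul_eq_mul, map_mul, Equiv.Perm.mul_apply]

theorem index_stabOf (htrans : ∀ ω : Ω, ∃ g : G, ρ g ω0 = ω) :
    (stabOf ρ ω0).index = Fintype.card Ω := by
  rw [Subgroup.index, ← Nat.card_eq_fintype_card]
  exact Nat.card_congr (Equiv.ofBijective _ ⟨orbMap_injective ρ ω0, orbMap_surjective ρ ω0 htrans⟩)

/-- If `H` fixes `ω0`, the action is transitive and `|G/H| ≤ |Ω|`, then `H` is the stabiliser. -/
theorem eq_stabOf (hfix : ∀ h ∈ H, ρ h ω0 = ω0) (htrans : ∀ ω : Ω, ∃ g : G, ρ g ω0 = ω)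
    (hfin : Finite (G ⧸ H)) (hle : Nat.card (G ⧸ H) ≤ Fintype.card Ω) :
    H = stabOf ρ ω0 := by
  have hHK : H ≤ stabOf ρ ω0 := fun h hh => hfix h hh
  have hK := index_stabOf ρ ω0 htrans
  have h1 : H.relIndex (stabOf ρ ω0) * (stabOf ρ ω0).index = H.index := Subgroup.relIndex_mul_index hHK
  have h2 : H.index ≠ 0 := Subgroup.index_ne_zero_of_finite
  have h3 : H.index ≤ Fintype.card Ω := hle
  have hpos : 0 < Fintype.card Ω := by
    rw [← hK]
    rcases Nat.eq_zero_or_pos (stabOf ρ ω0).index with h0 | h0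
    · rw [h0, mul_zero] at h1; exact absurd h1.symm h2
    · exact h0
  have h4 : H.relIndex (stabOf ρ ω0) = 1 := by
    rw [hK] at h1
    have h5 : H.relIndex (stabOf ρ ω0) ≠ 0 := by
      intro h0; rw [h0, zero_mul] at h1; exact h2 h1.symm
    have h6 : H.relIndex (stabOf ρ ω0) * Fintype.card Ω ≤ 1 * Fintype.card Ω := by
      rw [h1, one_mul]; exact h3
    have h7 := Nat.le_of_mul_le_mul_right h6 hpos
    omega
  exact le_antisymm hHK (Subgroup.relIndex_eq_one.mp h4)

theorem index_eq_card (hfix : ∀ h ∈ H, ρ h ω0 = ω0) (htrans : ∀ ω : Ω, ∃ g : G, ρ g ω0 = ω)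
    (hfin : Finite (G ⧸ H)) (hle : Nat.card (G ⧸ H) ≤ Fintype.card Ω) :
    H.index = Fintype.card Ω := by
  rw [eq_stabOf H ρ ω0 hfix htrans hfin hle]
  exact index_stabOf ρ ω0 htrans

/-- Orbits of the stabiliser on its coset space correspond to its orbits on `Ω`. -/
theorem orbMap_orbit_iff (q q' : G ⧸ stabOf ρ ω0) :
    (∃ h ∈ stabOf ρ ω0, h • q = q') ↔
      (∃ h ∈ stabOf ρ ω0, ρ h (orbMap ρ ω0 q) = orbMap ρ ω0 q') := by
  constructor
  · rintro ⟨h, hh, rfl⟩
    exact ⟨h, hh, (orbMap_smul ρ ω0 h q).symm⟩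
  · rintro ⟨h, hh, e⟩
    refine ⟨h, hh, orbMap_injective ρ ω0 ?_⟩
    rw [orbMap_smul]; exact e

end Lower

end Cfsg.Agent.H35
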