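import Cfsg.Agent.H35.TCReplay
import Cfsg.Prelude.Def_SporCoxeter

/-!
# Glue between Coxeter-style presentations and word lists (helper35)
-/

set_option autoImplicit false

namespace Cfsg.Agent.H35

open Cfsg.Spor

section Cox

variable {γ : Type}

/-- alternating word `x y x ...` of length `m` -/
def altW (x y : γ) : ℕ → List γ
  | 0 => []
  | m + 1 => x :: altW y x m

/-- split forms of all Coxeter relators -/
def coxSplits (gens : List γ) (lab : γ → γ → ℕ) : List (List γ × List γ) :=
  gens.flatMap (fun x => gens.map (fun y => (altW x y (lab x y), altW y x (lab x y))))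

theorem mul_pow_alt {K : Type*} [Group K] (a b : K) (m : ℕ) :
    a * (b * a) ^ m * b = (a * b) ^ (m + 1) := by
  induction m with
  | zero => simp
  | succ m ih =>
    calc a * (b * a) ^ (m + 1) * b = (a * (b * a) ^ m * b) * (a * b) := by
          rw [pow_succ]; simp only [mul_assoc]
      _ = (a * b) ^ (m + 1 + 1) := by rw [ih, ← pow_succ]

theorem uw_altW {K : Type*} [Group K] (f : γ → K) :
    ∀ (m : ℕ) (x y : γ), uw f (altW x y m ++ (altW y x m).reverse) = (f x * f y) ^ m
  | 0, x, y => by simp [altW, uw]
  | m + 1, x, y => by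
    have ih := uw_altW f m y x
    show uw f ((x :: altW y x m) ++ (y :: altW x y m).reverse) = _
    rw [List.reverse_cons, ← List.append_assoc, List.cons_append, uw_append, uw_cons, ih,
      uw_singleton, ← mul_pow_alt]

theorem cox_of_splits {K : Type*} [Group K] (f : γ → K) (gens : List γ) (lab : γ → γ → ℕ)
    (h : ∀ r ∈ coxSplits gens lab, uw f (r.1 ++ r.2.reverse) = 1) (x y : γ)
    (hx : x ∈ gens) (hy : y ∈ gens) : (f x * f y) ^ lab x y = 1 := by
  rw [← uw_altW]
  refine h (altW x y (lab x y), altW y x (lab x y)) ?_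
  unfold coxSplits
  rw [List.mem_flatMap]
  exact ⟨x, hx, List.mem_map.mpr ⟨y, hy, rfl⟩⟩

theorem splits_of_cox {K : Type*} [Group K] (f : γ → K) (gens : List γ) (lab : γ → γ → ℕ)
    (h : ∀ x y, (f x * f y) ^ lab x y = 1) :
    ∀ r ∈ coxSplits gens lab, uw f (r.1 ++ r.2.reverse) = 1 := by
  intro r hr
  unfold coxSplits at hr
  rw [List.mem_flatMap] at hr
  obtain ⟨x, _, hr⟩ := hr
  rw [List.mem_map] at hr
  obtain ⟨y, _, rfl⟩ := hr
  rw [uw_altW]
  exact h x y

theorem uw_rep {K : Type*} [Group K] (f : γ → K) (w : List γ) (k : ℕ) :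
    uw f (List.replicate k w).flatten = uw f w ^ k := by
  induction k with
  | zero => simp [uw]
  | succ k ih => rw [List.replicate_succ, List.flatten_cons, uw_append, ih, pow_succ']

/-- the full relator words of a split list and a power list -/
def fullW (rws : List (List γ × List γ)) (prels : List (List γ × ℕ × ℕ)) : List (List γ) :=
  rws.map (fun r => r.1 ++ r.2.reverse) ++ prels.map (fun r => (List.replicate r.2.1 r.1).flatten)

theorem fullW_one {K : Type*} [Group K] (f : γ → K) (rws : List (List γ × List γ))
    (prels : List (List γ × ℕ × ℕ)) (h1 : ∀ r ∈ rws, uw f (r.1 ++ r.2.reverse) = 1)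
    (h2 : ∀ r ∈ prels, uw f r.1 ^ r.2.1 = 1) : ∀ w ∈ fullW rws prels, uw f w = 1 := by
  intro w hw
  unfold fullW at hw
  rw [List.mem_append, List.mem_map, List.mem_map] at hw
  rcases hw with ⟨r, hr, rfl⟩ | ⟨r, hr, rfl⟩
  · exact h1 r hr
  · rw [uw_rep]; exact h2 r hr

theorem uw_rotate {K : Type*} [Group K] (f : γ → K) (w : List γ) (k : ℕ) (h : uw f w = 1) :
    uw f (w.rotate k) = 1 := by
  unfold uw at h ⊢
  rw [List.map_rotate]
  exact List.prod_rotate_eq_one_of_prod_eq_one h k

variable [DecidableEq γ]

/-- check that the circuits `circ c`, `c = c0, c0 + 1, ...` are the rotations of relator words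
(or of their reverses) named by the certificate list -/
def circChk (full : List (List γ)) (circ : ℕ → List γ) : ℕ → List (ℕ × ℕ × Bool) → Bool
  | _, [] => true
  | c, r :: rest =>
    decide (circ c = (cond r.2.2 (full.getD r.1 []).reverse (full.getD r.1 [])).rotate r.2.1) &&
      circChk full circ (c + 1) rest

theorem circChk_sound {K : Type*} [Group K] (f : γ → K) (hf : ∀ x, f x * f x = 1)
    (full : List (List γ)) (hfull : ∀ w ∈ full, uw f w = 1) (circ : ℕ → List γ) :
    ∀ (cert : List (ℕ × ℕ × Bool)) (c0 : ℕ), circChk full circ c0 cert = true →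
      ∀ i, i < cert.length → uw f (circ (c0 + i)) = 1
  | [], _, _, i, hi => by simp at hi
  | r :: rest, c0, h, i, hi => by
    unfold circChk at h
    rw [Bool.and_eq_true, decide_eq_true_eq] at h
    cases i with
    | zero =>
      rw [Nat.add_zero, h.1]
      apply uw_rotate
      have hg : uw f (full.getD r.1 []) = 1 := by
        rw [List.getD_eq_getElem?_getD]
        cases hq : full[r.1]? with
        | none => simp [uw]
        | some w => exact hfull w (List.mem_of_getElem? hq)
      cases r.2.2
      · exact hg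
      · show uw f (full.getD r.1 []).reverse = 1
        rw [uw_reverse f hf, hg, inv_one]
    | succ i =>
      have := circChk_sound f hf full hfull circ rest (c0 + 1) h.2 i (by simpa using hi)
      rw [show c0 + (i + 1) = c0 + 1 + i by omega]
      exact this

/-- a table that is `[]` outside `[0, K)` -/
noncomputable def circTab (K : ℕ) (t : ℕ → List γ) (c : ℕ) : List γ :=
  Bool.rec (motive := fun _ => List γ) (t c) [] (Nat.ble K c)

theorem circTab_valid {K : Type*} [Group K] (f : γ → K) (hf : ∀ x, f x * f x = 1)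
    (full : List (List γ)) (hfull : ∀ w ∈ full, uw f w = 1) (t : ℕ → List γ)
    (cert : List (ℕ × ℕ × Bool)) (h : circChk full t 0 cert = true) :
    ∀ c, uw f (circTab cert.length t c) = 1 := by
  intro c
  unfold circTab
  by_cases hc : cert.length ≤ c
  · rw [ble_true_of hc]; simp [uw]
  · rw [ble_false_of hc]
    have := circChk_sound f hf full hfull t cert 0 h c (by omega)
    rw [Nat.zero_add] at this
    exact this

/-- check of the subgroup circuits: `hc2 c ++ hc1 c` is a subgroup word or the reverse of one -/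
def hcChk (sw : List (List γ)) (hc1 hc2 : ℕ → List γ) (c : ℕ) : Bool :=
  decide ((hc2 c ++ hc1 c) ∈ sw) || decide ((hc2 c ++ hc1 c).reverse ∈ sw)

theorem hcTab_valid {G : Type*} [Group G] (f : γ → G) (hf : ∀ x, f x * f x = 1)
    (H : Subgroup G) (sw : List (List γ)) (hsw : ∀ w ∈ sw, uw f w ∈ H) (t1 t2 : ℕ → List γ)
    (KH : ℕ) (h : ∀ c, c < KH → hcChk sw t1 t2 c = true) :
    ∀ c, uw f (circTab KH t2 c ++ circTab KH t1 c) ∈ H := by
  intro c
  unfold circTab
  by_cases hc : KH ≤ c
  · rw [ble_true_of hc]; simp [uw]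
  · rw [ble_false_of hc]
    have h1 := h c (by omega)
    unfold hcChk at h1
    rw [Bool.or_eq_true, decide_eq_true_eq, decide_eq_true_eq] at h1
    rcases h1 with h1 | h1
    · exact hsw _ h1
    · have := hsw _ h1
      rw [uw_reverse f hf] at this
      exact (Subgroup.inv_mem_iff H).mp this

/-- relations of a Coxeter-style presentation in terms of the images of the generators -/
def CoxSat (edges : List (γ × ℕ × γ)) (extra : List (FreeGroup γ)) {K : Type*} [Group K]
    (f : γ → K) : Prop :=
  (∀ x y, (f x * f y) ^ coxLabel edges x y = 1) ∧ (∀ r ∈ extra, FreeGroup.lift f r = 1)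

theorem coxSat_inv (edges : List (γ × ℕ × γ)) (extra : List (FreeGroup γ)) {K : Type*} [Group K]
    (f : γ → K) (h : CoxSat edges extra f) (x : γ) : f x * f x = 1 := by
  have := h.1 x x
  have h1 : coxLabel edges x x = 1 := if_pos rfl
  rw [h1, pow_one] at this
  exact this

theorem cox_UP (edges : List (γ × ℕ × γ)) (extra : List (FreeGroup γ)) {K : Type*} [Group K]
    (f : γ → K) (h : CoxSat edges extra f) :
    ∃ φ : CoxPresented γ edges extra →* K, ∀ x, φ (PresentedGroup.of x) = f x := by
  have hr : ∀ r ∈ coxRelators edges ∪ {r | r ∈ extra}, FreeGroup.lift f r = 1 := by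
    intro r hr
    rcases hr with ⟨x, _, y, _, rfl⟩ | hr
    · rw [map_pow, map_mul, FreeGroup.lift_apply_of, FreeGroup.lift_apply_of]
      exact h.1 x y
    · exact h.2 r hr
  exact ⟨PresentedGroup.toGroup hr, fun x => PresentedGroup.toGroup.of hr⟩

omit [DecidableEq γ] in
theorem lift_of_eq_mk (rels : Set (FreeGroup γ)) (r : FreeGroup γ) :
    FreeGroup.lift (fun x => (PresentedGroup.of x : PresentedGroup rels)) r =
      PresentedGroup.mk rels r := by
  have : FreeGroup.lift (fun x => (PresentedGroup.of x : PresentedGroup rels)) =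
      PresentedGroup.mk rels := by
    apply FreeGroup.ext_hom
    intro a
    rw [FreeGroup.lift_apply_of]
    rfl
  rw [this]

theorem cox_relG (edges : List (γ × ℕ × γ)) (extra : List (FreeGroup γ))
    (hnodes : ∀ x : γ, x ∈ coxNodes edges) :
    CoxSat edges extra (fun x => (PresentedGroup.of x : CoxPresented γ edges extra)) := by
  constructor
  · intro x y
    have h : (FreeGroup.of x * FreeGroup.of y) ^ coxLabel edges x y ∈
        coxRelators edges ∪ {r | r ∈ extra} := Or.inl ⟨x, hnodes x, y, hnodes y, rfl⟩
    have := PresentedGroup.one_of_mem h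
    rw [map_pow, map_mul] at this
    exact this
  · intro r hr
    rw [lift_of_eq_mk]
    exact PresentedGroup.one_of_mem (Or.inr hr)

end Cox

end Cfsg.Agent.H35
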