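import Mathlib
import Cfsg.Agent.H86.FsDefs

/-!
# FS-EMB (team project FS = S5515, helper86): `G` embeds in `Aut(P)` as a full preimage

helper35.  `c g p = e (g * e.symm p * g⁻¹)` is injective, `c n = conj (e n)` on `N`, and
`c.range` is the full preimage of `Q = c.range.map (mk' (Inn P))`.
-/

set_option autoImplicit false

universe u v

namespace Cfsg.Agent.H35.Fs

open Cfsg.Agent.H86.Fs

theorem emb : StEmb.{u, v} := by
  intro G _ P _ N _ hCN e hZ
  let c : G →* MulAut P := (MulAut.congr e).toMonoidHom.comp (MulAut.conjNormal (H := N))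
  have hc_apply : ∀ (g : G) (p : P), c g p = e (MulAut.conjNormal g (e.symm p)) := by
    intro g p; rfl
  have hcN : ∀ (n : G) (hn : n ∈ N), c n = MulAut.conj (e ⟨n, hn⟩) := by
    intro n hn
    ext p
    rw [hc_apply, MulAut.conj_apply]
    have h1 : MulAut.conjNormal n (e.symm p) = ⟨n, hn⟩ * e.symm p * ⟨n, hn⟩⁻¹ := by
      apply Subtype.ext
      rw [MulAut.conjNormal_apply]
      rfl
    rw [h1, map_mul, map_mul, map_inv, e.apply_symm_apply]
  have hinj : Function.Injective c := by
    rw [injective_iff_map_eq_one]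
    intro g hg
    have hcomm : ∀ n : ↥N, g * (n : G) * g⁻¹ = n := by
      intro n
      have h1 := hc_apply g (e n)
      rw [hg, MulAut.one_apply, e.symm_apply_apply] at h1
      have h2 := e.injective h1
      have h3 := congrArg Subtype.val h2
      rw [MulAut.conjNormal_apply] at h3
      exact h3.symm
    have hgN : g ∈ N := by
      apply hCN
      rw [Subgroup.mem_centralizer_iff]
      intro n hn
      have h1 := hcomm ⟨n, hn⟩
      calc n * g = (g * n * g⁻¹) * g := by rw [h1]
        _ = g * n := by group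
    have hcen : e ⟨g, hgN⟩ ∈ Subgroup.center P := by
      rw [Subgroup.mem_center_iff]
      intro p
      have h1 := hcomm (e.symm p)
      have h2 : (⟨g, hgN⟩ : ↥N) * e.symm p = e.symm p * ⟨g, hgN⟩ := by
        apply Subtype.ext
        show g * (e.symm p : G) = (e.symm p : G) * g
        calc g * (e.symm p : G) = (g * (e.symm p : G) * g⁻¹) * g := by group
          _ = (e.symm p : G) * g := by rw [h1]
      calc p * e ⟨g, hgN⟩ = e (e.symm p * ⟨g, hgN⟩) := by
            rw [map_mul, e.apply_symm_apply]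
        _ = e (⟨g, hgN⟩ * e.symm p) := by rw [h2]
        _ = e ⟨g, hgN⟩ * p := by rw [map_mul, e.apply_symm_apply]
    rw [hZ, Subgroup.mem_bot] at hcen
    have h4 : (⟨g, hgN⟩ : ↥N) = 1 := by
      apply e.injective; rw [hcen, map_one]
    exact congrArg Subtype.val h4
  have hInn : Cfsg.Inn P ≤ c.range := by
    rintro _ ⟨p, rfl⟩
    refine ⟨(e.symm p : G), ?_⟩
    rw [hcN _ (e.symm p).2]
    congr 1
    exact e.apply_symm_apply p
  refine ⟨c.range.map (QuotientGroup.mk' (Cfsg.Inn P)), ⟨?_⟩, ⟨?_⟩⟩
  · have hEq : c.range = (c.range.map (QuotientGroup.mk' (Cfsg.Inn P))).comap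
        (QuotientGroup.mk' (Cfsg.Inn P)) := by
      rw [Subgroup.comap_map_eq, QuotientGroup.ker_mk']
      exact (sup_eq_left.mpr hInn).symm
    exact (MonoidHom.ofInjective hinj).trans (MulEquiv.subgroupCongr hEq)
  · let φ : G →* Cfsg.Out P := (QuotientGroup.mk' (Cfsg.Inn P)).comp c
    have hker : φ.ker = N := by
      ext g
      rw [MonoidHom.mem_ker]
      show (QuotientGroup.mk' (Cfsg.Inn P)) (c g) = 1 ↔ g ∈ N
      rw [← MonoidHom.mem_ker, QuotientGroup.ker_mk']
      constructor
      · rintro ⟨p, hp⟩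
        have h1 : c (e.symm p : G) = c g := by
          rw [hcN _ (e.symm p).2, ← hp]
          congr 1
          exact e.apply_symm_apply p
        rw [← hinj h1]
        exact (e.symm p).2
      · intro hg
        exact ⟨e ⟨g, hg⟩, (hcN g hg).symm⟩
    have hrange : φ.range = c.range.map (QuotientGroup.mk' (Cfsg.Inn P)) :=
      (MonoidHom.map_range _ _).symm
    exact ((QuotientGroup.quotientMulEquivOfEq hker.symm).trans
      (QuotientGroup.quotientKerEquivRange φ)).trans (MulEquiv.subgroupCongr hrange)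

end Cfsg.Agent.H35.Fs

namespace Cfsg.Agent.H35.FsEmbCheck

open Cfsg.Agent.H86.Fs

example : StEmb.{u, v} := Cfsg.Agent.H35.Fs.emb

end Cfsg.Agent.H35.FsEmbCheck
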