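import Mathlib
import Cfsg.Agent.H95.HupDefs
import Cfsg.Agent.H77.ZsigCor

set_option autoImplicit false

/-!
# Piece ARITH of S3360 (helper35, for helper95)

If every primitive prime divisor `r` of `q ^ n - 1` (`q` prime, `n ≥ 3`, `(q, n) ≠ (2, 6)`) is `n + 1`,
divides `q ^ n - 1` only once, and `n` is a power of two, `q ≠ 2`, then `q ^ n = 81`.
-/

namespace Cfsg.Agent.H35.Hup

theorem four_mul_add_one_lt_three_pow (m : ℕ) (hm : 3 ≤ m) : 4 * m + 1 < 3 ^ m := by
  induction m, hm using Nat.le_induction with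
  | base => norm_num
  | succ m hm ih =>
    rw [pow_succ]
    omega

theorem sq_sub_one_eq (Q : ℕ) (hQ : 1 ≤ Q) : Q ^ 2 - 1 = (Q - 1) * (Q + 1) := by
  obtain ⟨t, rfl⟩ := Nat.exists_eq_add_of_le' hQ
  have h : (t + 1) ^ 2 = t * (t + 1 + 1) + 1 := by ring
  rw [h]
  simp

theorem arith : Cfsg.Agent.H95.Hup.ArithStmt := by
  intro q n hq hn h6 H
  obtain ⟨r, hrp, hrd, hrprim⟩ := Cfsg.Agent.H77.exists_isPrimPrime hq.two_le hn h6
  obtain ⟨-, -, ⟨k, hk⟩, hq2⟩ := H r hrp hrd hrprim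
  obtain ⟨k', rfl⟩ : ∃ k', k = k' + 2 := by
    rcases k with _ | _ | k
    · simp at hk
      omega
    · simp at hk
      omega
    · exact ⟨k, rfl⟩
  obtain ⟨m, hm⟩ : ∃ m, m = 2 ^ (k' + 1) := ⟨_, rfl⟩
  have hnm : n = 2 * m := by
    rw [hk, hm]
    ring
  have hmeven : m = 2 * 2 ^ k' := by
    rw [hm]
    ring
  have hm2 : 2 ≤ m := by
    have : 1 ≤ 2 ^ k' := Nat.one_le_two_pow
    omega
  have hqodd : q % 2 = 1 := by
    rcases hq.eq_two_or_odd with h | h
    · exact absurd h hq2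
    · exact h
  have hq3 : 3 ≤ q := by
    have := hq.two_le
    omega
  have hQ1 : 1 ≤ q ^ m := Nat.one_le_pow _ _ hq.pos
  have hfac : q ^ n - 1 = (q ^ m - 1) * (q ^ m + 1) := by
    rw [hnm, pow_mul']
    exact sq_sub_one_eq _ hQ1
  have hNdvd : q ^ m + 1 ∣ q ^ n - 1 := by
    rw [hfac]
    exact Dvd.intro_left _ rfl
  -- `q ^ m + 1` is `2` modulo `4`
  have hmod4 : (q ^ m + 1) % 4 = 2 := by
    have h1 : q ^ 2 % 4 = 1 := by
      have h2 : q % 4 = 1 ∨ q % 4 = 3 := by omega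
      rcases h2 with h2 | h2 <;> simp [Nat.pow_mod, h2]
    have h3 : q ^ m % 4 = 1 := by
      rw [hmeven, pow_mul, Nat.pow_mod, h1]
      simp
    omega
  -- odd prime divisors of `q ^ m + 1` are primitive
  have hprim : ∀ t : ℕ, t.Prime → t ≠ 2 → t ∣ q ^ m + 1 → t = n + 1 ∧ ¬ t ^ 2 ∣ q ^ n - 1 := by
    intro t ht ht2 htd
    have h := H t ht (htd.trans hNdvd) ?_
    · exact ⟨h.1, h.2.1⟩
    intro i hi hin hti
    have hg : t ∣ q ^ Nat.gcd i n - 1 := by
      rw [← Nat.pow_sub_one_gcd_pow_sub_one]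
      exact Nat.dvd_gcd hti (htd.trans hNdvd)
    have hgn : Nat.gcd i n ∣ 2 ^ (k' + 2) := hk ▸ Nat.gcd_dvd_right i n
    obtain ⟨j, hj, hgj⟩ := (Nat.dvd_prime_pow Nat.prime_two).1 hgn
    have hgle : Nat.gcd i n ≤ i := Nat.le_of_dvd hi (Nat.gcd_dvd_left i n)
    have hjlt : j < k' + 2 := by
      by_contra hcon
      have hj2 : j = k' + 2 := by omega
      rw [hj2, ← hk] at hgj
      omega
    have hgm : Nat.gcd i n ∣ m := by
      rw [hgj, hm]
      exact pow_dvd_pow 2 (by omega)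
    have h1 : t ∣ q ^ m - 1 := hg.trans (Nat.pow_sub_one_dvd_pow_sub_one q hgm)
    have h2 : t ∣ (q ^ m + 1) - (q ^ m - 1) := Nat.dvd_sub htd h1
    have h3 : (q ^ m + 1) - (q ^ m - 1) = 2 := by omega
    rw [h3] at h2
    exact ht2 ((Nat.prime_dvd_prime_iff_eq ht Nat.prime_two).1 h2)
  -- hence `q ^ m + 1 = 2 * (n + 1)`
  have hN : q ^ m + 1 = 2 * (n + 1) := by
    obtain ⟨M, hM⟩ : ∃ M, q ^ m + 1 = 2 * M := ⟨(q ^ m + 1) / 2, by omega⟩
    have hModd : M % 2 = 1 := by omega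
    have hM1 : M ≠ 1 := by
      intro h
      have : 2 ≤ q ^ m := by
        calc 2 ≤ q := hq.two_le
          _ = q ^ 1 := (pow_one q).symm
          _ ≤ q ^ m := Nat.pow_le_pow_right hq.pos (by omega)
      omega
    have ht := Nat.minFac_prime hM1
    have htM : M.minFac ∣ M := Nat.minFac_dvd M
    have ht2 : M.minFac ≠ 2 := by
      intro h
      rw [h] at htM
      omega
    have htN : M.minFac ∣ q ^ m + 1 := htM.trans ⟨2, by rw [hM]; ring⟩
    obtain ⟨hteq, htsq⟩ := hprim _ ht ht2 htN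
    obtain ⟨M', hM'⟩ := htM
    have hM'1 : M' = 1 := by
      by_contra hne
      have ht' := Nat.minFac_prime hne
      have ht'M' : M'.minFac ∣ M' := Nat.minFac_dvd M'
      have ht'M : M'.minFac ∣ M := ht'M'.trans (Dvd.intro_left _ hM'.symm)
      have ht'2 : M'.minFac ≠ 2 := by
        intro h
        rw [h] at ht'M
        omega
      have ht'N : M'.minFac ∣ q ^ m + 1 := ht'M.trans ⟨2, by rw [hM]; ring⟩
      obtain ⟨ht'eq, -⟩ := hprim _ ht' ht'2 ht'N
      have heq : M'.minFac = M.minFac := by rw [ht'eq, hteq]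
      apply htsq
      have h1 : M.minFac ^ 2 ∣ M := by
        obtain ⟨c, hc⟩ : M.minFac ∣ M' := heq ▸ ht'M'
        refine ⟨c, ?_⟩
        calc M = M.minFac * M' := hM'
          _ = M.minFac * (M.minFac * c) := by rw [← hc]
          _ = M.minFac ^ 2 * c := by ring
      exact (h1.trans ⟨2, by rw [hM]; ring⟩).trans hNdvd
    rw [hM, hM', hM'1, mul_one, hteq]
  -- conclusion
  have hqm : q ^ m = 4 * m + 1 := by omega
  have hm3 : m < 3 := by
    by_contra hcon
    have h1 := four_mul_add_one_lt_three_pow m (by omega)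
    have h2 : 3 ^ m ≤ q ^ m := Nat.pow_le_pow_left hq3 m
    omega
  have hm2' : m = 2 := by omega
  rw [hm2'] at hqm hnm
  have hq3' : q = 3 := by
    have h9 : q ^ 2 = 3 ^ 2 := by
      rw [hqm]
      norm_num
    exact Nat.pow_left_injective (by norm_num : (2 : ℕ) ≠ 0) h9
  rw [hq3', hnm]
  norm_num

end Cfsg.Agent.H35.Hup

namespace Cfsg.Agent.H35.HupArithCheck

example : Cfsg.Agent.H95.Hup.ArithStmt := Cfsg.Agent.H35.Hup.arith

end Cfsg.Agent.H35.HupArithCheck
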