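import Mathlib
import Cfsg.Agent.H95.HupDefs

set_option autoImplicit false

/-!
# Piece GL6 of S3360 (helper35, for helper95)

A group acting faithfully and linearly on a space with 64 elements over `ZMod 2` has order dividing
the order `20158709760` of `GL₆(2)`.
-/

universe u w

namespace Cfsg.Agent.H35.Hup

theorem card_GL6_two : Nat.card (GL (Fin 6) (ZMod 2)) = 20158709760 := by
  rw [Matrix.card_GL_field]
  simp [Fin.prod_univ_succ]

theorem gl6 : Cfsg.Agent.H95.Hup.GL6Stmt.{u, w} := by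
  intro V _ _ _ G _ _ ρ hρ hV
  have h1 : Nat.card G ∣ Nat.card (V ≃ₗ[ZMod 2] V) := Subgroup.card_dvd_of_injective ρ hρ
  have : Fintype V := Fintype.ofFinite V
  have hfin : Module.finrank (ZMod 2) V = 6 := by
    have h := Module.card_eq_pow_finrank (K := ZMod 2) (V := V)
    rw [← Nat.card_eq_fintype_card, hV, ZMod.card] at h
    have h64 : (2 : ℕ) ^ 6 = 2 ^ Module.finrank (ZMod 2) V := by
      rw [← h]
      norm_num
    exact (Nat.pow_right_injective (le_refl 2) h64).symm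
  have b := Module.finBasisOfFinrankEq (ZMod 2) V hfin
  have e1 : (V →ₗ[ZMod 2] V)ˣ ≃* (V ≃ₗ[ZMod 2] V) :=
    LinearMap.GeneralLinearGroup.generalLinearEquiv (ZMod 2) V
  have e2 : (V →ₗ[ZMod 2] V)ˣ ≃* GL (Fin 6) (ZMod 2) :=
    Units.mapEquiv (LinearMap.toMatrixAlgEquiv b).toMulEquiv
  rw [← Nat.card_congr e1.toEquiv, Nat.card_congr e2.toEquiv, card_GL6_two] at h1
  exact h1

end Cfsg.Agent.H35.Hup

namespace Cfsg.Agent.H35.HupGL6Check

example : Cfsg.Agent.H95.Hup.GL6Stmt.{u, w} := Cfsg.Agent.H35.Hup.gl6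

end Cfsg.Agent.H35.HupGL6Check
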