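import Mathlib
import Cfsg.Agent.H88.JcDefs

/-!
# JC-S3 (W4 pieces for S2948 / S2949, helper88): the square lemma

helper35.  `(u, v) ↦ u * ξ v` is a bijection `C_Y(α) × C_Y(α) → Y`.
-/

set_option autoImplicit false

universe u

namespace Cfsg.Agent.H35.Jc

open Cfsg.Agent.H88.Jc

section exp2
variable {U : Type u} [Group U]

theorem e2_inv (h2 : ∀ m : U, m * m = 1) (a : U) : a⁻¹ = a :=
  inv_eq_of_mul_eq_one_right (h2 a)

theorem e2_comm (h2 : ∀ m : U, m * m = 1) (a b : U) : a * b = b * a := by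
  calc a * b = (a * b)⁻¹ := (e2_inv h2 (a * b)).symm
    _ = b⁻¹ * a⁻¹ := mul_inv_rev a b
    _ = b * a := by rw [e2_inv h2 a, e2_inv h2 b]

theorem e2_lcomm (h2 : ∀ m : U, m * m = 1) (a b c : U) : a * (b * c) = b * (a * c) := by
  rw [← mul_assoc, e2_comm h2 a b, mul_assoc]

theorem e2_cancel (h2 : ∀ m : U, m * m = 1) (a b : U) : a * (a * b) = b := by
  rw [← mul_assoc, h2, one_mul]

theorem mem_fix {S : Set (MulAut U)} {x : U} : x ∈ fix S ↔ ∀ σ ∈ S, σ x = x := Iff.rfl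

theorem mem_fix_singleton {α : MulAut U} {x : U} : x ∈ fix {α} ↔ α x = x := by
  rw [mem_fix]
  constructor
  · intro h; exact h α rfl
  · intro h σ hσ; rw [Set.mem_singleton_iff.mp hσ]; exact h

end exp2

theorem s3 : StS3.{u} := by
  intro U _ _ h2 ξ α hξ hα hαξ Y hYξ hYα hfix
  have h3 : ∀ x : U, ξ (ξ (ξ x)) = x := by
    intro x
    have h0 := DFunLike.congr_fun hξ x
    simpa [pow_succ, MulAut.mul_apply] using h0
  have hαα : ∀ x : U, α (α x) = x := by
    intro x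
    have h0 := DFunLike.congr_fun hα x
    simpa [MulAut.mul_apply] using h0
  have key : ∀ x : U, α (ξ x) = ξ (ξ (α x)) := by
    intro x
    have h1 : α * ξ = ξ⁻¹ * α := mul_inv_eq_iff_eq_mul.mp hαξ
    have h4 : ξ * (α * ξ) = α := by rw [h1, ← mul_assoc, mul_inv_cancel, one_mul]
    have h5 : ξ (α (ξ x)) = α x := by
      have h0 := DFunLike.congr_fun h4 x
      simpa [MulAut.mul_apply] using h0
    rw [← h5, h3]
  have hmem : ∀ x : U, x ∈ Y ⊓ fix {α} ↔ x ∈ Y ∧ α x = x := by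
    intro x; rw [Subgroup.mem_inf, mem_fix_singleton]
  -- the map
  let f : ↥(Y ⊓ fix {α}) × ↥(Y ⊓ fix {α}) → ↥Y := fun p =>
    ⟨p.1.1 * ξ p.2.1, Y.mul_mem ((hmem _).mp p.1.2).1 (hYξ _ ((hmem _).mp p.2.2).1)⟩
  have hinj : Function.Injective f := by
    rintro ⟨⟨a, ha⟩, ⟨v, hv⟩⟩ ⟨⟨a', ha'⟩, ⟨v', hv'⟩⟩ h
    have h : a * ξ v = a' * ξ v' := Subtype.ext_iff.mp h
    have ha := (hmem _).mp ha
    have ha' := (hmem _).mp ha'
    have hv := (hmem _).mp hv
    have hv' := (hmem _).mp hv'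
    have hy : a * a' = ξ (v * v') := by
      rw [map_mul]
      calc a * a' = (a * ξ v) * (a' * ξ v') * (ξ v * ξ v') := by
            simp only [mul_assoc, e2_comm h2, e2_lcomm h2, h2, e2_cancel h2, mul_one, one_mul]
        _ = (a' * ξ v') * (a' * ξ v') * (ξ v * ξ v') := by rw [h]
        _ = ξ v * ξ v' := by
            simp only [mul_assoc, e2_comm h2, e2_lcomm h2, h2, e2_cancel h2, mul_one, one_mul]
    have hαy : α (a * a') = a * a' := by rw [map_mul, ha.2, ha'.2]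
    have hαw : α (v * v') = v * v' := by rw [map_mul, hv.2, hv'.2]
    have h6 : ξ (ξ (v * v')) = ξ (v * v') := by
      have h0 := hαy
      rw [hy, key, hαw] at h0
      exact h0
    have h7 : ξ (v * v') = v * v' := ξ.injective h6
    have hw : v * v' = 1 := hfix _ (Y.mul_mem hv.1 hv'.1) h7
    have hvv : v = v' := by
      have h0 := mul_eq_one_iff_eq_inv.mp hw
      rwa [e2_inv h2] at h0
    have haa1 : a * a' = 1 := by rw [hy, hw, map_one]
    have haa : a = a' := by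
      have h0 := mul_eq_one_iff_eq_inv.mp haa1
      rwa [e2_inv h2] at h0
    exact Prod.ext (Subtype.ext haa) (Subtype.ext hvv)
  have hsurj : Function.Surjective f := by
    rintro ⟨y, hy⟩
    obtain ⟨v, hvdef⟩ : ∃ v, v = y * α y := ⟨_, rfl⟩
    have hvY : v ∈ Y := by rw [hvdef]; exact Y.mul_mem hy (hYα y hy)
    have hvα : α v = v := by rw [hvdef, map_mul, hαα, e2_comm h2]
    have hn : ξ (v * ξ v * ξ (ξ v)) = v * ξ v * ξ (ξ v) := by
      rw [map_mul, map_mul, h3]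
      simp only [mul_assoc, e2_comm h2, e2_lcomm h2]
    have hn1 : v * ξ v * ξ (ξ v) = 1 :=
      hfix _ (Y.mul_mem (Y.mul_mem hvY (hYξ _ hvY)) (hYξ _ (hYξ _ hvY))) hn
    have ident : ∀ y a t s : U, a * s = (y * t) * ((y * a) * t * s) := by
      intro y a t s
      simp only [mul_assoc, e2_comm h2, e2_lcomm h2, h2, e2_cancel h2, mul_one, one_mul]
    have huY : y * ξ v ∈ Y := Y.mul_mem hy (hYξ _ hvY)
    have huα : α (y * ξ v) = y * ξ v := by
      rw [map_mul, key, hvα, ident y (α y) (ξ v) (ξ (ξ v)), ← hvdef, hn1, mul_one]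
    refine ⟨(⟨y * ξ v, (hmem _).mpr ⟨huY, huα⟩⟩, ⟨v, (hmem _).mpr ⟨hvY, hvα⟩⟩), ?_⟩
    apply Subtype.ext
    show y * ξ v * ξ v = y
    rw [mul_assoc, h2, mul_one]
  rw [← Nat.card_congr (Equiv.ofBijective f ⟨hinj, hsurj⟩), Nat.card_prod, sq]

end Cfsg.Agent.H35.Jc

namespace Cfsg.Agent.H35.JcS3Check

example : Cfsg.Agent.H88.Jc.StS3.{u} := Cfsg.Agent.H35.Jc.s3

end Cfsg.Agent.H35.JcS3Check
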