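import Mathlib
import Cfsg.Agent.H88.JcDefs
import Cfsg.Agent.H35.JcS3

/-!
# JC-CORE (W4 pieces for S2948 / S2949, helper88): `|[U, ξ]| ∈ {1, 4}`

helper35.  `W = H88.Jc.comm ξ` is the kernel of the norm `u ↦ u * ξ u * ξ² u`; `U = C_U(ξ) × W`, compatibly
with the fixed points of subgroups of `𝔸`.
-/

set_option autoImplicit false
set_option linter.unusedSimpArgs false
set_option linter.unusedVariables false

universe u

namespace Cfsg.Agent.H35.Jc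

open Cfsg.Agent.H88.Jc

section core
variable {U : Type u} [Group U]

theorem fix_anti {S T : Set (MulAut U)} (h : S ⊆ T) : fix T ≤ fix S :=
  fun _ hx σ hσ => hx σ (h hσ)

/-- `[U, ξ]` is the kernel of the norm map -/
theorem nrm_mem_comm (h2 : ∀ m : U, m * m = 1) (ξ : MulAut U)
    (h3 : ∀ x : U, ξ (ξ (ξ x)) = x) (w : U) :
    w ∈ H88.Jc.comm ξ ↔ w * ξ w * ξ (ξ w) = 1 := by
  constructor
  · intro hw
    unfold H88.Jc.comm at hw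
    induction hw using Subgroup.closure_induction with
    | mem x hx =>
      obtain ⟨v, rfl⟩ := hx
      simp only [map_mul, map_inv, e2_inv h2, h3, mul_assoc, e2_comm h2, e2_lcomm h2, h2,
        e2_cancel h2, mul_one, one_mul]
    | one => simp
    | mul a b _ _ iha ihb =>
      have h0 : a * b * ξ (a * b) * ξ (ξ (a * b)) =
          (a * ξ a * ξ (ξ a)) * (b * ξ b * ξ (ξ b)) := by
        simp only [map_mul, mul_assoc, e2_comm h2, e2_lcomm h2]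
      rw [h0, iha, ihb, one_mul]
    | inv a _ iha => rw [e2_inv h2]; exact iha
  · intro hw
    have h1 : ξ (ξ w) * ξ w = w := by
      calc ξ (ξ w) * ξ w = w * (w * ξ w * ξ (ξ w)) := by
            simp only [mul_assoc, e2_comm h2, e2_lcomm h2, h2, e2_cancel h2, mul_one, one_mul]
        _ = w := by rw [hw, mul_one]
    have h4 : ξ (ξ w) * (ξ w)⁻¹ ∈ H88.Jc.comm ξ := Subgroup.subset_closure ⟨ξ w, rfl⟩
    rwa [e2_inv h2, h1] at h4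

theorem comm_fix_eq_one (h2 : ∀ m : U, m * m = 1) (ξ : MulAut U)
    (h3 : ∀ x : U, ξ (ξ (ξ x)) = x) (w : U) (hw : w ∈ H88.Jc.comm ξ) (hf : ξ w = w) : w = 1 := by
  have h0 := (nrm_mem_comm h2 ξ h3 w).mp hw
  rw [hf, hf, h2, one_mul] at h0
  exact h0

/-- `F = (C_U(ξ) ∩ F) × ([U, ξ] ∩ F)` when `F` contains the `W`-parts of its elements -/
theorem card_decomp [Finite U] (h2 : ∀ m : U, m * m = 1) (ξ : MulAut U)
    (h3 : ∀ x : U, ξ (ξ (ξ x)) = x) (F : Subgroup U) (hF : ∀ x ∈ F, ξ x * ξ (ξ x) ∈ F) :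
    Nat.card ↥F = Nat.card ↥(fix {ξ} ⊓ F) * Nat.card ↥(H88.Jc.comm ξ ⊓ F) := by
  let f : ↥(fix {ξ} ⊓ F) × ↥(H88.Jc.comm ξ ⊓ F) → ↥F := fun p =>
    ⟨p.1.1 * p.2.1, F.mul_mem (Subgroup.mem_inf.mp p.1.2).2 (Subgroup.mem_inf.mp p.2.2).2⟩
  have hinj : Function.Injective f := by
    rintro ⟨⟨a, ha⟩, ⟨w, hw⟩⟩ ⟨⟨a', ha'⟩, ⟨w', hw'⟩⟩ h
    have h : a * w = a' * w' := Subtype.ext_iff.mp h
    obtain ⟨ha1, -⟩ := Subgroup.mem_inf.mp ha
    obtain ⟨ha'1, -⟩ := Subgroup.mem_inf.mp ha'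
    obtain ⟨hw1, -⟩ := Subgroup.mem_inf.mp hw
    obtain ⟨hw'1, -⟩ := Subgroup.mem_inf.mp hw'
    have hz : a * a' = w * w' := by
      calc a * a' = (a * w) * (a' * w') * (w * w') := by
            simp only [mul_assoc, e2_comm h2, e2_lcomm h2, h2, e2_cancel h2, mul_one, one_mul]
        _ = (a' * w') * (a' * w') * (w * w') := by rw [h]
        _ = w * w' := by
            simp only [mul_assoc, e2_comm h2, e2_lcomm h2, h2, e2_cancel h2, mul_one, one_mul]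
    have hzfix : ξ (w * w') = w * w' := by
      rw [← hz, map_mul, mem_fix_singleton.mp ha1, mem_fix_singleton.mp ha'1]
    have hz1 : w * w' = 1 :=
      comm_fix_eq_one h2 ξ h3 _ ((H88.Jc.comm ξ).mul_mem hw1 hw'1) hzfix
    have hww : w = w' := by
      have h0 := mul_eq_one_iff_eq_inv.mp hz1
      rwa [e2_inv h2] at h0
    have haa : a = a' := by
      have h0 := mul_eq_one_iff_eq_inv.mp (hz.trans hz1)
      rwa [e2_inv h2] at h0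
    exact Prod.ext (Subtype.ext haa) (Subtype.ext hww)
  have hsurj : Function.Surjective f := by
    rintro ⟨x, hx⟩
    have hwF := hF x hx
    have hwW : ξ x * ξ (ξ x) ∈ H88.Jc.comm ξ := by
      rw [nrm_mem_comm h2 ξ h3]
      simp only [map_mul, h3, mul_assoc, e2_comm h2, e2_lcomm h2, h2, e2_cancel h2, mul_one,
        one_mul]
    have haF : x * (ξ x * ξ (ξ x)) ∈ F := F.mul_mem hx hwF
    have hafix : ξ (x * (ξ x * ξ (ξ x))) = x * (ξ x * ξ (ξ x)) := by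
      simp only [map_mul, h3, mul_assoc, e2_comm h2, e2_lcomm h2]
    refine ⟨(⟨x * (ξ x * ξ (ξ x)), Subgroup.mem_inf.mpr ⟨mem_fix_singleton.mpr hafix, haF⟩⟩,
      ⟨ξ x * ξ (ξ x), Subgroup.mem_inf.mpr ⟨hwW, hwF⟩⟩), ?_⟩
    apply Subtype.ext
    show x * (ξ x * ξ (ξ x)) * (ξ x * ξ (ξ x)) = x
    rw [mul_assoc, h2, mul_one]
  rw [← Nat.card_congr (Equiv.ofBijective f ⟨hinj, hsurj⟩), Nat.card_prod]

/-- surjectivity in the square lemma -/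
theorem s3_surj (h2 : ∀ m : U, m * m = 1) (ξ α : MulAut U) (h3 : ∀ x : U, ξ (ξ (ξ x)) = x)
    (hαα : ∀ x : U, α (α x) = x) (key : ∀ x : U, α (ξ x) = ξ (ξ (α x)))
    (Y : Subgroup U) (hYξ : ∀ y ∈ Y, ξ y ∈ Y) (hYα : ∀ y ∈ Y, α y ∈ Y)
    (hfix : ∀ y ∈ Y, ξ y = y → y = 1) (y : U) (hy : y ∈ Y) :
    ∃ a ∈ Y, ∃ v ∈ Y, α a = a ∧ α v = v ∧ y = a * ξ v := by
  obtain ⟨v, hvdef⟩ : ∃ v, v = y * α y := ⟨_, rfl⟩
  have hvY : v ∈ Y := by rw [hvdef]; exact Y.mul_mem hy (hYα y hy)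
  have hvα : α v = v := by rw [hvdef, map_mul, hαα, e2_comm h2]
  have hn : ξ (v * ξ v * ξ (ξ v)) = v * ξ v * ξ (ξ v) := by
    rw [map_mul, map_mul, h3]
    simp only [mul_assoc, e2_comm h2, e2_lcomm h2]
  have hn1 : v * ξ v * ξ (ξ v) = 1 :=
    hfix _ (Y.mul_mem (Y.mul_mem hvY (hYξ _ hvY)) (hYξ _ (hYξ _ hvY))) hn
  have ident : ∀ y a t s : U, a * s = (y * t) * ((y * a) * t * s) := by
    intro y a t s
    simp only [mul_assoc, e2_comm h2, e2_lcomm h2, h2, e2_cancel h2, mul_one, one_mul]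
  have huY : y * ξ v ∈ Y := Y.mul_mem hy (hYξ _ hvY)
  have huα : α (y * ξ v) = y * ξ v := by
    rw [map_mul, key, hvα, ident y (α y) (ξ v) (ξ (ξ v)), ← hvdef, hn1, mul_one]
  refine ⟨y * ξ v, huY, v, hvY, huα, hvα, ?_⟩
  rw [mul_assoc, h2, mul_one]

/-- restriction of an involutive automorphism to an invariant subgroup -/
def resAut (M : Subgroup U) (σ : MulAut U) (hσ : ∀ x : U, σ (σ x) = x)
    (hM : ∀ m ∈ M, σ m ∈ M) : MulAut ↥M where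
  toFun m := ⟨σ m.1, hM _ m.2⟩
  invFun m := ⟨σ m.1, hM _ m.2⟩
  left_inv m := Subtype.ext (hσ _)
  right_inv m := Subtype.ext (hσ _)
  map_mul' a b := Subtype.ext (map_mul σ _ _)

/-- the elements of `𝔸` acting trivially on `W` -/
def trivOn (𝔸 : Subgroup (MulAut U)) (W : Subgroup U) : Subgroup (MulAut U) where
  carrier := {σ | σ ∈ 𝔸 ∧ ∀ w ∈ W, σ w = w}
  one_mem' := ⟨𝔸.one_mem, fun _ _ => rfl⟩
  mul_mem' := by
    rintro a b ⟨ha1, ha2⟩ ⟨hb1, hb2⟩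
    exact ⟨𝔸.mul_mem ha1 hb1, fun w hw => by rw [MulAut.mul_apply, hb2 w hw, ha2 w hw]⟩
  inv_mem' := by
    rintro a ⟨ha1, ha2⟩
    refine ⟨𝔸.inv_mem ha1, fun w hw => ?_⟩
    have h0 := ha2 w hw
    calc a⁻¹ w = a⁻¹ (a w) := by rw [h0]
      _ = w := by simp

theorem mem_trivOn {𝔸 : Subgroup (MulAut U)} {W : Subgroup U} {σ : MulAut U} :
    σ ∈ trivOn 𝔸 W ↔ σ ∈ 𝔸 ∧ ∀ w ∈ W, σ w = w := Iff.rfl

theorem core (hMB : StMB.{u}) (hS3 : StS3.{u}) : StCore.{u} := by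
  intro U _ _ h2 ξ hξ 𝔸 hab hinv hnorm hex hBO
  by_cases hW : H88.Jc.comm ξ = ⊥
  · left; rw [hW]; exact Subgroup.card_bot
  right
  obtain ⟨α, hαA, hαξ⟩ := hex
  have h3 : ∀ x : U, ξ (ξ (ξ x)) = x := by
    intro x
    have h0 := DFunLike.congr_fun hξ x
    simpa [pow_succ, MulAut.mul_apply] using h0
  have hinvol : ∀ σ ∈ 𝔸, ∀ x : U, σ (σ x) = x := by
    intro σ hσ x
    have h0 := DFunLike.congr_fun (hinv σ hσ) x
    simpa [MulAut.mul_apply] using h0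
  have hcomm_el : ∀ σ : MulAut U, σ * ξ * σ⁻¹ = ξ → ∀ x : U, σ (ξ x) = ξ (σ x) := by
    intro σ hσ x
    have h1 : σ * ξ = ξ * σ := mul_inv_eq_iff_eq_mul.mp hσ
    have h0 := DFunLike.congr_fun h1 x
    simpa [MulAut.mul_apply] using h0
  have hinv_el : ∀ σ : MulAut U, σ * ξ * σ⁻¹ = ξ⁻¹ → ∀ x : U, σ (ξ x) = ξ (ξ (σ x)) := by
    intro σ hσ x
    have h1 : σ * ξ = ξ⁻¹ * σ := mul_inv_eq_iff_eq_mul.mp hσ
    have h4 : ξ * (σ * ξ) = σ := by rw [h1, ← mul_assoc, mul_inv_cancel, one_mul]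
    have h5 : ξ (σ (ξ x)) = σ x := by
      have h0 := DFunLike.congr_fun h4 x
      simpa [MulAut.mul_apply] using h0
    rw [← h5, h3]
  have hpair : ∀ σ ∈ 𝔸, ∀ x : U, σ (ξ x * ξ (ξ x)) = ξ (σ x) * ξ (ξ (σ x)) := by
    intro σ hσ x
    rcases hnorm σ hσ with h | h
    · have e1 : σ (ξ x) = ξ (σ x) := hcomm_el σ h x
      have e2 : σ (ξ (ξ x)) = ξ (ξ (σ x)) := by rw [hcomm_el σ h (ξ x), e1]
      rw [map_mul, e1, e2]
    · have e1 : σ (ξ x) = ξ (ξ (σ x)) := hinv_el σ h x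
      have e2 : σ (ξ (ξ x)) = ξ (σ x) := by rw [hinv_el σ h (ξ x), e1, h3]
      rw [map_mul, e1, e2]
      exact e2_comm h2 _ _
  have hWξ : ∀ w ∈ H88.Jc.comm ξ, ξ w ∈ H88.Jc.comm ξ := by
    intro w hw
    rw [nrm_mem_comm h2 ξ h3] at hw ⊢
    rw [← map_mul, ← map_mul, hw, map_one]
  have hWA : ∀ σ ∈ 𝔸, ∀ w ∈ H88.Jc.comm ξ, σ w ∈ H88.Jc.comm ξ := by
    intro σ hσ w hw
    rw [nrm_mem_comm h2 ξ h3] at hw ⊢
    rw [mul_assoc, ← hpair σ hσ w, ← map_mul, ← mul_assoc, hw, map_one]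
  have hfixdecomp : ∀ 𝔅 : Subgroup (MulAut U), 𝔅 ≤ 𝔸 →
      Nat.card ↥(fix (𝔅 : Set (MulAut U))) =
        Nat.card ↥(fix {ξ} ⊓ fix (𝔅 : Set (MulAut U))) *
          Nat.card ↥(H88.Jc.comm ξ ⊓ fix (𝔅 : Set (MulAut U))) := by
    intro 𝔅 h𝔅
    apply card_decomp h2 ξ h3
    intro x hx
    refine mem_fix.mpr (fun σ hσ => ?_)
    rw [hpair σ (h𝔅 hσ) x, mem_fix.mp hx σ hσ]
  have hBO' : ∀ 𝔅 : Subgroup (MulAut U), 𝔅 ≤ 𝔸 →
      Nat.card ↥(H88.Jc.comm ξ ⊓ fix (𝔅 : Set (MulAut U))) ≤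
        𝔅.relIndex 𝔸 * Nat.card ↥(H88.Jc.comm ξ ⊓ fix (𝔸 : Set (MulAut U))) := by
    intro 𝔅 h𝔅
    have e1 := hfixdecomp 𝔅 h𝔅
    have e2 := hfixdecomp 𝔸 le_rfl
    have e3 := hBO 𝔅 h𝔅
    have e4 : Nat.card ↥(fix {ξ} ⊓ fix (𝔸 : Set (MulAut U))) ≤
        Nat.card ↥(fix {ξ} ⊓ fix (𝔅 : Set (MulAut U))) :=
      Subgroup.card_le_of_le (inf_le_inf_left _ (fix_anti (SetLike.coe_subset_coe.mpr h𝔅)))
    have e5 : 0 < Nat.card ↥(fix {ξ} ⊓ fix (𝔅 : Set (MulAut U))) := Nat.card_pos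
    rw [e1, e2] at e3
    have key : ∀ aB wB aA wA r : ℕ, aB * wB ≤ r * (aA * wA) → aA ≤ aB → 0 < aB →
        wB ≤ r * wA := by
      intro aB wB aA wA r k1 k2 k3
      have k4 : aB * wB ≤ aB * (r * wA) := by
        calc aB * wB ≤ r * (aA * wA) := k1
          _ = aA * (r * wA) := by ring
          _ ≤ aB * (r * wA) := Nat.mul_le_mul_right _ k2
      exact Nat.le_of_mul_le_mul_left k4 k3
    exact key _ _ _ _ _ e3 e4 e5
  have hξ1 : ξ ≠ 1 := by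
    intro h
    apply hW
    unfold H88.Jc.comm
    rw [Subgroup.closure_eq_bot_iff]
    rintro _ ⟨v, rfl⟩
    simp [h]
  have hno : ∀ σ : MulAut U, σ * ξ * σ⁻¹ = ξ → σ * ξ * σ⁻¹ = ξ⁻¹ → False := by
    intro σ e1 e2
    apply hξ1
    have e3 : ξ = ξ⁻¹ := e1.symm.trans e2
    have e4 : ξ * ξ = 1 := by
      calc ξ * ξ = ξ * ξ⁻¹ := congrArg (fun t => ξ * t) e3
        _ = 1 := mul_inv_cancel ξ
    have e5 := hξ
    rw [pow_succ, pow_two, e4, one_mul] at e5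
    exact e5
  obtain ⟨𝔸1, hA1def⟩ : ∃ 𝔸1 : Subgroup (MulAut U), 𝔸1 = 𝔸 ⊓ Subgroup.centralizer {ξ} :=
    ⟨_, rfl⟩
  have hA1mem : ∀ σ : MulAut U, σ ∈ 𝔸1 ↔ σ ∈ 𝔸 ∧ σ * ξ * σ⁻¹ = ξ := by
    intro σ
    rw [hA1def, Subgroup.mem_inf, Subgroup.mem_centralizer_iff]
    constructor
    · rintro ⟨k1, k2⟩
      exact ⟨k1, mul_inv_eq_iff_eq_mul.mpr (k2 ξ rfl).symm⟩
    · rintro ⟨k1, k2⟩
      refine ⟨k1, fun g hg => ?_⟩
      rw [Set.mem_singleton_iff.mp hg]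
      exact (mul_inv_eq_iff_eq_mul.mp k2).symm
  have hA1le : 𝔸1 ≤ 𝔸 := fun σ hσ => ((hA1mem σ).mp hσ).1
  have hαnot : α ∉ 𝔸1 := fun h => hno α ((hA1mem α).mp h).2 hαξ
  have hdich : ∀ σ ∈ 𝔸, σ ∈ 𝔸1 ∨ σ * α ∈ 𝔸1 := by
    intro σ hσ
    rcases hnorm σ hσ with h | h
    · exact Or.inl ((hA1mem σ).mpr ⟨hσ, h⟩)
    · refine Or.inr ((hA1mem _).mpr ⟨𝔸.mul_mem hσ hαA, ?_⟩)
      calc σ * α * ξ * (σ * α)⁻¹ = σ * (α * ξ * α⁻¹) * σ⁻¹ := by group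
        _ = σ * ξ⁻¹ * σ⁻¹ := by rw [hαξ]
        _ = (σ * ξ * σ⁻¹)⁻¹ := by group
        _ = ξ := by rw [h, inv_inv]
  have hr1 : 𝔸1.relIndex 𝔸 = 2 := by
    rw [Subgroup.relIndex_eq_two_iff_exists_notMem_and]
    exact ⟨α, hαA, hαnot, fun b hb => (hdich b hb).symm⟩
  have hkey := hS3 h2 ξ α hξ (hinv α hαA) hαξ
  -- the square lemma on `Y1 = W ⊓ C(𝔸1)`
  have hY1ξ : ∀ y ∈ H88.Jc.comm ξ ⊓ fix (𝔸1 : Set (MulAut U)),
      ξ y ∈ H88.Jc.comm ξ ⊓ fix (𝔸1 : Set (MulAut U)) := by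
    intro y hy
    obtain ⟨hy1, hy2⟩ := Subgroup.mem_inf.mp hy
    refine Subgroup.mem_inf.mpr ⟨hWξ y hy1, mem_fix.mpr (fun σ hσ => ?_)⟩
    rw [hcomm_el σ ((hA1mem σ).mp hσ).2, mem_fix.mp hy2 σ hσ]
  have hY1α : ∀ y ∈ H88.Jc.comm ξ ⊓ fix (𝔸1 : Set (MulAut U)),
      α y ∈ H88.Jc.comm ξ ⊓ fix (𝔸1 : Set (MulAut U)) := by
    intro y hy
    obtain ⟨hy1, hy2⟩ := Subgroup.mem_inf.mp hy
    refine Subgroup.mem_inf.mpr ⟨hWA α hαA y hy1, mem_fix.mpr (fun σ hσ => ?_)⟩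
    have h0 := DFunLike.congr_fun (hab σ (hA1le hσ) α hαA) y
    simp only [MulAut.mul_apply] at h0
    rw [h0, mem_fix.mp hy2 σ hσ]
  have hY1fix : ∀ y ∈ H88.Jc.comm ξ ⊓ fix (𝔸1 : Set (MulAut U)), ξ y = y → y = 1 :=
    fun y hy hf => comm_fix_eq_one h2 ξ h3 y (Subgroup.mem_inf.mp hy).1 hf
  have hY1card := hkey _ hY1ξ hY1α hY1fix
  have hY1eq : H88.Jc.comm ξ ⊓ fix (𝔸1 : Set (MulAut U)) ⊓ fix {α} =
      H88.Jc.comm ξ ⊓ fix (𝔸 : Set (MulAut U)) := by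
    ext y
    simp only [Subgroup.mem_inf, mem_fix_singleton]
    constructor
    · rintro ⟨⟨hy1, hy2⟩, hy3⟩
      refine ⟨hy1, mem_fix.mpr (fun σ hσ => ?_)⟩
      rcases hdich σ hσ with h | h
      · exact mem_fix.mp hy2 σ h
      · have h0 := mem_fix.mp hy2 (σ * α) h
        rw [MulAut.mul_apply, hy3] at h0
        exact h0
    · rintro ⟨hy1, hy2⟩
      exact ⟨⟨hy1, fix_anti (SetLike.coe_subset_coe.mpr hA1le) hy2⟩, mem_fix.mp hy2 α hαA⟩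
  rw [hY1eq] at hY1card
  have hc2 : Nat.card ↥(H88.Jc.comm ξ ⊓ fix (𝔸 : Set (MulAut U))) ≤ 2 := by
    have e1 := hBO' 𝔸1 hA1le
    rw [hY1card, hr1, pow_two] at e1
    exact Nat.le_of_mul_le_mul_right e1 Nat.card_pos
  -- the square lemma on `W`
  have hWfix : ∀ y ∈ H88.Jc.comm ξ, ξ y = y → y = 1 :=
    fun y hy hf => comm_fix_eq_one h2 ξ h3 y hy hf
  have hWcard := hkey (H88.Jc.comm ξ) hWξ (hWA α hαA) hWfix
  -- the kernel of the action on `W`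
  obtain ⟨𝔑, hNdef⟩ : ∃ 𝔑 : Subgroup (MulAut U), 𝔑 = trivOn 𝔸 (H88.Jc.comm ξ) := ⟨_, rfl⟩
  have hNmem : ∀ σ : MulAut U, σ ∈ 𝔑 ↔ σ ∈ 𝔸 ∧ ∀ w ∈ H88.Jc.comm ξ, σ w = w := by
    intro σ; rw [hNdef]; exact mem_trivOn
  have hNle1 : 𝔑 ≤ 𝔸1 := by
    intro σ hσ
    obtain ⟨hσA, hσW⟩ := (hNmem σ).mp hσ
    rcases hnorm σ hσA with h | h
    · exact (hA1mem σ).mpr ⟨hσA, h⟩
    · exfalso
      apply hW
      rw [Subgroup.eq_bot_iff_forall]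
      intro w hw
      have e1 := hinv_el σ h w
      rw [hσW _ (hWξ w hw), hσW w hw] at e1
      exact comm_fix_eq_one h2 ξ h3 w hw (ξ.injective e1).symm
  have hNle : 𝔑 ≤ 𝔸 := hNle1.trans hA1le
  have hWN : H88.Jc.comm ξ ⊓ fix (𝔑 : Set (MulAut U)) = H88.Jc.comm ξ := by
    apply inf_eq_left.mpr
    intro w hw
    exact mem_fix.mpr (fun σ hσ => ((hNmem σ).mp hσ).2 w hw)
  have hb1 := hBO' 𝔑 hNle
  rw [hWN] at hb1
  have hrel : 𝔑.relIndex 𝔸1 * 𝔸1.relIndex 𝔸 = 𝔑.relIndex 𝔸 :=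
    Subgroup.relIndex_mul_relIndex 𝔑 𝔸1 𝔸 hNle1 hA1le
  -- `M = C_W(α)` and the action of `𝔸1` on it
  obtain ⟨M, hMdef⟩ : ∃ M : Subgroup U, M = H88.Jc.comm ξ ⊓ fix {α} := ⟨_, rfl⟩
  have hMmem : ∀ x : U, x ∈ M ↔ x ∈ H88.Jc.comm ξ ∧ α x = x := by
    intro x; rw [hMdef, Subgroup.mem_inf, mem_fix_singleton]
  have hMA : ∀ σ ∈ 𝔸, ∀ m ∈ M, σ m ∈ M := by
    intro σ hσ m hm
    obtain ⟨hm1, hm2⟩ := (hMmem m).mp hm
    refine (hMmem _).mpr ⟨hWA σ hσ m hm1, ?_⟩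
    have h0 := DFunLike.congr_fun (hab α hαA σ hσ) m
    simp only [MulAut.mul_apply] at h0
    rw [h0, hm2]
  let ρ : ↥𝔸1 →* MulAut ↥M := MonoidHom.mk'
    (fun σ => resAut M σ.1 (hinvol σ.1 (hA1le σ.2)) (hMA σ.1 (hA1le σ.2)))
    (by
      intro σ τ
      apply MulEquiv.ext
      intro m
      apply Subtype.ext
      rfl)
  have hker : ρ.ker = 𝔑.subgroupOf 𝔸1 := by
    ext σ
    rw [MonoidHom.mem_ker, Subgroup.mem_subgroupOf, hNmem]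
    constructor
    · intro h
      refine ⟨hA1le σ.2, fun w hw => ?_⟩
      obtain ⟨a, haW, v, hvW, haα, hvα, rfl⟩ := s3_surj h2 ξ α h3 (hinvol α hαA)
        (hinv_el α hαξ) (H88.Jc.comm ξ) hWξ (hWA α hαA) hWfix w hw
      have ea : σ.1 a = a := by
        have h0 := DFunLike.congr_fun h ⟨a, (hMmem a).mpr ⟨haW, haα⟩⟩
        exact Subtype.ext_iff.mp h0
      have ev : σ.1 v = v := by
        have h0 := DFunLike.congr_fun h ⟨v, (hMmem v).mpr ⟨hvW, hvα⟩⟩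
        exact Subtype.ext_iff.mp h0
      rw [map_mul, hcomm_el σ.1 ((hA1mem σ.1).mp σ.2).2, ea, ev]
    · rintro ⟨-, h⟩
      apply MulEquiv.ext
      intro m
      apply Subtype.ext
      exact h m.1 ((hMmem m.1).mp m.2).1
  have hrange : Nat.card ↥ρ.range = 𝔑.relIndex 𝔸1 := by
    rw [← Subgroup.index_ker, hker]
    rfl
  -- a nontrivial fixed point of `𝔸` on `W`
  obtain ⟨w0, hw0, hw01⟩ : ∃ w ∈ H88.Jc.comm ξ, w ≠ 1 := by
    by_contra hcon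
    push_neg at hcon
    exact hW ((Subgroup.eq_bot_iff_forall _).mpr hcon)
  haveI : Fact (Nat.Prime 2) := ⟨Nat.prime_two⟩
  have hdvd : 2 ∣ Nat.card ↥(H88.Jc.comm ξ) := by
    have e1 : orderOf (⟨w0, hw0⟩ : ↥(H88.Jc.comm ξ)) = 2 := by
      apply orderOf_eq_prime
      · apply Subtype.ext
        show w0 ^ 2 = 1
        rw [pow_two, h2]
      · intro h
        exact hw01 (Subtype.ext_iff.mp h)
    rw [← e1]
    exact orderOf_dvd_natCard _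
  have hpA : IsPGroup 2 ↥𝔸 := by
    intro σ
    refine ⟨1, ?_⟩
    apply Subtype.ext
    show σ.1 ^ 2 ^ 1 = 1
    rw [pow_one, pow_two]
    exact hinv σ.1 σ.2
  letI actW : MulAction ↥𝔸 ↥(H88.Jc.comm ξ) :=
    { smul := fun σ w => ⟨σ.1 w.1, hWA σ.1 σ.2 w.1 w.2⟩
      one_smul := fun w => Subtype.ext rfl
      mul_smul := fun σ τ w => Subtype.ext rfl }
  obtain ⟨b, hbfix, hb1'⟩ := hpA.exists_fixed_point_of_prime_dvd_card_of_fixed_point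
    ↥(H88.Jc.comm ξ) hdvd (a := 1) (by
      intro σ
      apply Subtype.ext
      show σ.1 1 = 1
      exact map_one _)
  have hbA : b.1 ∈ H88.Jc.comm ξ ⊓ fix (𝔸 : Set (MulAut U)) := by
    refine Subgroup.mem_inf.mpr ⟨b.2, mem_fix.mpr (fun σ hσ => ?_)⟩
    have h0 := MulAction.mem_fixedPoints.mp hbfix ⟨σ, hσ⟩
    exact Subtype.ext_iff.mp h0
  have hbne : b.1 ≠ 1 := fun h => hb1' (Subtype.ext h.symm)
  have hc2' : Nat.card ↥(H88.Jc.comm ξ ⊓ fix (𝔸 : Set (MulAut U))) = 2 := by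
    apply le_antisymm hc2
    have hnt : Nontrivial ↥(H88.Jc.comm ξ ⊓ fix (𝔸 : Set (MulAut U))) :=
      ⟨⟨⟨b.1, hbA⟩, 1, fun h => hbne (Subtype.ext_iff.mp h)⟩⟩
    exact Finite.one_lt_card_iff_nontrivial.mpr hnt
  have honly : ∀ m ∈ H88.Jc.comm ξ ⊓ fix (𝔸 : Set (MulAut U)), m = 1 ∨ m = b.1 := by
    intro m hm
    by_contra hcon
    push_neg at hcon
    obtain ⟨y, hy1, hy2⟩ := (Nat.card_eq_two_iff'
      (1 : ↥(H88.Jc.comm ξ ⊓ fix (𝔸 : Set (MulAut U))))).mp hc2'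
    have e1 := hy2 ⟨b.1, hbA⟩ (fun h => hbne (Subtype.ext_iff.mp h))
    have e2 := hy2 ⟨m, hm⟩ (fun h => hcon.1 (Subtype.ext_iff.mp h))
    exact hcon.2 (Subtype.ext_iff.mp (e2.trans e1.symm))
  -- the module bound
  have hM2 : ∀ m : ↥M, m * m = 1 := fun m => Subtype.ext (h2 m.1)
  have hbM : b.1 ∈ M := (hMmem _).mpr ⟨b.2, mem_fix.mp (Subgroup.mem_inf.mp hbA).2 α hαA⟩
  have hmb := hMB hM2 ρ.range
    (by
      rintro _ ⟨σ, rfl⟩ _ ⟨τ, rfl⟩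
      rw [← map_mul, ← map_mul]
      congr 1
      exact Subtype.ext (hab σ.1 (hA1le σ.2) τ.1 (hA1le τ.2)))
    (by
      rintro _ ⟨σ, rfl⟩
      rw [← map_mul]
      have hσσ : σ * σ = 1 := Subtype.ext (hinv σ.1 (hA1le σ.2))
      rw [hσσ, map_one])
    ⟨b.1, hbM⟩ (fun h => hbne (Subtype.ext_iff.mp h))
    (by
      rintro _ ⟨σ, rfl⟩
      apply Subtype.ext
      exact mem_fix.mp (Subgroup.mem_inf.mp hbA).2 σ.1 (hA1le σ.2))
    (by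
      intro m hm
      have hmA : m.1 ∈ H88.Jc.comm ξ ⊓ fix (𝔸 : Set (MulAut U)) := by
        obtain ⟨hm1, hm2⟩ := (hMmem m.1).mp m.2
        refine Subgroup.mem_inf.mpr ⟨hm1, mem_fix.mpr (fun σ hσ => ?_)⟩
        have hfix1 : ∀ τ : MulAut U, τ ∈ 𝔸1 → τ m.1 = m.1 := by
          intro τ hτ
          have h0 := hm (ρ ⟨τ, hτ⟩) ⟨⟨τ, hτ⟩, rfl⟩
          exact Subtype.ext_iff.mp h0
        rcases hdich σ hσ with h | h
        · exact hfix1 σ h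
        · have h0 := hfix1 (σ * α) h
          rw [MulAut.mul_apply, hm2] at h0
          exact h0
      rcases honly m.1 hmA with h | h
      · exact Or.inl (Subtype.ext h)
      · exact Or.inr (Subtype.ext h))
  -- arithmetic
  rw [← hMdef] at hWcard
  rw [hc2', ← hrel, hr1, ← hrange] at hb1
  have fin : ∀ μ s W : ℕ, W = μ ^ 2 → W ≤ s * 2 * 2 → 2 * s ≤ μ → 2 ∣ W → 0 < μ → W = 4 := by
    intro μ s W k1 k2 k3 k4 k5
    subst k1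
    have k6 : μ ≤ 2 := by nlinarith
    interval_cases μ
    · omega
    · rfl
  exact fin _ _ _ hWcard hb1 hmb hdvd Nat.card_pos

end core

end Cfsg.Agent.H35.Jc

namespace Cfsg.Agent.H35.JcCoreCheck

open Cfsg.Agent.H88.Jc

example (hMB : StMB.{u}) (hS3 : StS3.{u}) : StCore.{u} := Cfsg.Agent.H35.Jc.core hMB hS3

end Cfsg.Agent.H35.JcCoreCheck
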