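import Mathlib
import Cfsg.Agent.H28.JkDefs
import Cfsg.Agent.H82.JtDichAB

/-!
# JK-F1 (JZ-KILL sub-project of S2951 / S2952, helper28): the dichotomy (F1), two-sided form

helper35.  Direct instance of helper82's `Cfsg.Agent.H82.Jt.dich_ab_L` with `ι := Orb T K`,
`W i := wOf i.1`.
-/

set_option autoImplicit false
open Cfsg

universe u

namespace Cfsg.Agent.H35.Jk

open Cfsg.Agent.H28.Jk Cfsg.Agent.H52.Sr

theorem kf1 : StKF1.{u} := by
  intro G _ _ T K L hSR hr hNV hexp hcent hTI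
  obtain ⟨hsup, hind, hcomp, hperm, -, -⟩ := hSR
  exact Cfsg.Agent.H82.Jt.dich_ab_L (VV L) L (fun i : Orb T K => wOf i.1) hNV.ge hNV.le hcent
    hexp hsup hind (fun i => (hcomp i).2.2) hperm hr hTI

end Cfsg.Agent.H35.Jk

namespace Cfsg.Agent.H35.JkF1Check

open Cfsg.Agent.H28.Jk

example : StKF1.{u} := Cfsg.Agent.H35.Jk.kf1

end Cfsg.Agent.H35.JkF1Check
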