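import Mathlib
import Cfsg.Agent.H28.JkDefs
import Cfsg.Agent.H82.JtDich

/-!
# JK-TI (JZ-KILL sub-project of S2951 / S2952, helper28): `C_G(u) ≤ L` and `V` is TI mod `L`

helper35.  `u' = l u l⁻¹ ∈ C(J)` has order 2, `N_G(⟨u'⟩)` is a 2-local over `J`, so
`C_G(u') ≤ L`.  For TI: with `x = l g`, `N_G(E^x)` (`L = N_G(E)`) is a 2-local over `J`, so
`L^x ≤ L`, `x ∈ N_G(L) ≤ L`.
-/

set_option autoImplicit false
open Cfsg

universe u

namespace Cfsg.Agent.H35.Jk

open Cfsg.Agent.H28.Jk

theorem vv_sq {G : Type u} [Group G] (Q : Subgroup G) :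
    ∀ w ∈ omegaCenterOf Q, w * w = 1 := by
  intro w hw
  have key : w ∈ Q ⊓ Subgroup.centralizer (Q : Set G) ∧ w * w = 1 := by
    unfold omegaCenterOf omegaOne at hw
    induction hw using Subgroup.closure_induction with
    | mem x hx => exact ⟨hx.1, by rw [← pow_two]; exact hx.2⟩
    | one => exact ⟨Subgroup.one_mem _, one_mul 1⟩
    | mul x y _ _ hx hy =>
      refine ⟨Subgroup.mul_mem _ hx.1 hy.1, ?_⟩
      have hc : x * y = y * x :=
        Subgroup.mem_centralizer_iff.mp (Subgroup.mem_inf.mp hy.1).2 x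
          (Subgroup.mem_inf.mp hx.1).1
      calc x * y * (x * y) = x * (y * x) * y := by simp only [mul_assoc]
        _ = x * (x * y) * y := by rw [hc]
        _ = (x * x) * (y * y) := by simp only [mul_assoc]
        _ = 1 := by rw [hx.2, hy.2, one_mul]
    | inv x _ hx =>
      refine ⟨Subgroup.inv_mem _ hx.1, ?_⟩
      rw [← mul_inv_rev, hx.2, inv_one]
  exact key.2

theorem le_norm_of_conj {G : Type u} [Group G] (X U : Subgroup G)
    (h : ∀ x ∈ X, ∀ u ∈ U, x * u * x⁻¹ ∈ U) : X ≤ Subgroup.normalizer (U : Set G) := by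
  intro x hx
  rw [Subgroup.mem_normalizer_iff]
  intro u
  constructor
  · intro hu
    exact h x hx u hu
  · intro hu
    have h0 := h x⁻¹ (X.inv_mem hx) _ hu
    have e : x⁻¹ * (x * u * x⁻¹) * x⁻¹⁻¹ = u := by group
    rwa [e] at h0

theorem conj_pow_succ {G : Type u} [Group G] (x c : G) (n : ℕ) :
    x ^ (n + 1) * c * (x ^ (n + 1))⁻¹ = x * (x ^ n * c * (x ^ n)⁻¹) * x⁻¹ := by
  rw [pow_succ', mul_inv_rev]
  simp only [mul_assoc]

theorem kti : StKTI.{u} := by
  intro G _ _ J L hL hJL hNL hconj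
  obtain ⟨E, hE2, hEne, hLE⟩ := hL
  have hexp : ∀ v ∈ VV L, v * v = 1 := vv_sq (pCoreOf 2 L)
  have part1 : ∀ u ∈ VV L, u ≠ 1 → Subgroup.centralizer ({u} : Set G) ≤ L := by
    intro u hu hu1
    obtain ⟨l, hl, hlu⟩ := hconj u hu
    have hu'1 : l * u * l⁻¹ ≠ 1 := by
      intro h
      apply hu1
      have e : u = l⁻¹ * (l * u * l⁻¹) * l := by group
      rw [e, h]; group
    have hu'2 : (l * u * l⁻¹) * (l * u * l⁻¹) = 1 := by
      have e : (l * u * l⁻¹) * (l * u * l⁻¹) = l * (u * u) * l⁻¹ := by group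
      rw [e, hexp u hu]; group
    have hCN : Subgroup.centralizer ({l * u * l⁻¹} : Set G) ≤
        Subgroup.normalizer ((Subgroup.zpowers (l * u * l⁻¹) : Subgroup G) : Set G) := by
      apply le_norm_of_conj
      intro x hx h hh
      obtain ⟨k, rfl⟩ := Subgroup.mem_zpowers_iff.mp hh
      have hc : Commute x (l * u * l⁻¹) :=
        (Subgroup.mem_centralizer_iff.mp hx (l * u * l⁻¹) (Set.mem_singleton _)).symm
      have hc2 := (hc.zpow_right k).eq
      rw [hc2, mul_inv_cancel_right]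
      exact Subgroup.zpow_mem_zpowers _ k
    have hCu' : Subgroup.centralizer ({l * u * l⁻¹} : Set G) ≤ L := by
      have hloc : IsTwoLocal
          (Subgroup.normalizer ((Subgroup.zpowers (l * u * l⁻¹) : Subgroup G) : Set G)) := by
        refine ⟨Subgroup.zpowers (l * u * l⁻¹), ?_, ?_, rfl⟩
        · haveI : Fact (Nat.Prime 2) := ⟨Nat.prime_two⟩
          apply IsPGroup.of_card (n := 1)
          rw [Nat.card_zpowers, pow_one]
          exact orderOf_eq_prime (by rw [pow_two]; exact hu'2) hu'1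
        · intro h
          apply hu'1
          have hm : l * u * l⁻¹ ∈ Subgroup.zpowers (l * u * l⁻¹) := Subgroup.mem_zpowers _
          rw [h, Subgroup.mem_bot] at hm
          exact hm
      have hJN : J ≤
          Subgroup.normalizer ((Subgroup.zpowers (l * u * l⁻¹) : Subgroup G) : Set G) := by
        intro j hj
        apply hCN
        rw [Subgroup.mem_centralizer_iff]
        intro h hh
        rw [Set.mem_singleton_iff.mp hh]
        exact (Subgroup.mem_centralizer_iff.mp hlu j hj).symm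
      exact hCN.trans (hJL _ hloc hJN)
    intro c hc
    have hc' : l * c * l⁻¹ ∈ Subgroup.centralizer ({l * u * l⁻¹} : Set G) := by
      rw [Subgroup.mem_centralizer_iff]
      intro h hh
      rw [Set.mem_singleton_iff.mp hh]
      have hcu : u * c = c * u := Subgroup.mem_centralizer_iff.mp hc u (Set.mem_singleton _)
      calc l * u * l⁻¹ * (l * c * l⁻¹) = l * (u * c) * l⁻¹ := by group
        _ = l * (c * u) * l⁻¹ := by rw [hcu]
        _ = l * c * l⁻¹ * (l * u * l⁻¹) := by group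
    have h1 := hCu' hc'
    have e : c = l⁻¹ * (l * c * l⁻¹) * l := by group
    rw [e]
    exact L.mul_mem (L.mul_mem (L.inv_mem hl) h1) hl
  refine ⟨part1, ?_⟩
  intro g hg
  obtain ⟨⟨u, hu⟩, hu1⟩ := Subgroup.ne_bot_iff_exists_ne_one.mp hg
  have hu1' : u ≠ 1 := fun h => hu1 (Subtype.ext h)
  obtain ⟨huV, huVg⟩ := Subgroup.mem_inf.mp hu
  obtain ⟨u₀, hu₀V, hu₀⟩ := Subgroup.mem_map.mp huVg
  have hu₀' : g * u₀ * g⁻¹ = u := by simpa [MulAut.conj_apply] using hu₀
  have hu₀1 : u₀ ≠ 1 := by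
    intro h; apply hu1'; rw [← hu₀', h]; group
  have hC0 := part1 u₀ hu₀V hu₀1
  obtain ⟨l, hl, hlu⟩ := hconj u huV
  have hxu : l * u * l⁻¹ = (l * g) * u₀ * (l * g)⁻¹ := by rw [← hu₀']; group
  have hstep : ∀ c ∈ L, (l * g) * c * (l * g)⁻¹ ∈ L := by
    intro c hc
    have hloc : IsTwoLocal (Subgroup.normalizer
        ((E.map (MulAut.conj (l * g)).toMonoidHom : Subgroup G) : Set G)) := by
      refine ⟨E.map (MulAut.conj (l * g)).toMonoidHom, hE2.map _, ?_, rfl⟩
      intro h
      exact hEne ((Subgroup.map_eq_bot_iff_of_injective E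
        (MulAut.conj (l * g)).injective).mp h)
    have hJX : J ≤ Subgroup.normalizer
        ((E.map (MulAut.conj (l * g)).toMonoidHom : Subgroup G) : Set G) := by
      intro j hj
      rw [Cfsg.Agent.H82.Jt.conj_normalizer, ← hLE]
      apply hC0
      rw [Subgroup.mem_centralizer_iff]
      intro h hh
      rw [Set.mem_singleton_iff.mp hh]
      have hj' : j * (l * u * l⁻¹) = (l * u * l⁻¹) * j :=
        Subgroup.mem_centralizer_iff.mp hlu j hj
      rw [hxu] at hj'
      calc u₀ * ((l * g)⁻¹ * j * (l * g))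
          = (l * g)⁻¹ * ((l * g) * u₀ * (l * g)⁻¹ * j) * (l * g) := by group
        _ = (l * g)⁻¹ * (j * ((l * g) * u₀ * (l * g)⁻¹)) * (l * g) := by rw [hj']
        _ = (l * g)⁻¹ * j * (l * g) * u₀ := by group
    have hXL := hJL _ hloc hJX
    apply hXL
    rw [Cfsg.Agent.H82.Jt.conj_normalizer, ← hLE]
    have e : (l * g)⁻¹ * ((l * g) * c * (l * g)⁻¹) * (l * g) = c := by group
    rw [e]; exact hc
  have hpow : ∀ n : ℕ, ∀ c ∈ L, (l * g) ^ n * c * ((l * g) ^ n)⁻¹ ∈ L := by
    intro n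
    induction n with
    | zero => intro c hc; simpa using hc
    | succ n ih =>
      intro c hc
      rw [conj_pow_succ]
      exact hstep _ (ih c hc)
  have hxN : l * g ∈ Subgroup.normalizer (L : Set G) := by
    rw [Subgroup.mem_normalizer_iff]
    intro h
    constructor
    · intro hh; exact hstep h hh
    · intro hh
      have hpos : 0 < orderOf (l * g) := orderOf_pos _
      have hinv : (l * g)⁻¹ = (l * g) ^ (orderOf (l * g) - 1) := by
        apply inv_eq_of_mul_eq_one_right
        rw [← pow_succ', Nat.sub_add_cancel hpos, pow_orderOf_eq_one]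
      have h1 := hpow (orderOf (l * g) - 1) _ hh
      rw [← hinv] at h1
      have e : (l * g)⁻¹ * ((l * g) * h * (l * g)⁻¹) * (l * g)⁻¹⁻¹ = h := by group
      rwa [e] at h1
  have hxL := hNL hxN
  have e : g = l⁻¹ * (l * g) := by group
  rw [e]
  exact L.mul_mem (L.inv_mem hl) hxL

end Cfsg.Agent.H35.Jk

namespace Cfsg.Agent.H35.JkTICheck

open Cfsg.Agent.H28.Jk

example : StKTI.{u} := Cfsg.Agent.H35.Jk.kti

end Cfsg.Agent.H35.JkTICheck
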