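import Mathlib
import Cfsg.Agent.H9.PGDefs

/-!
# PG-FIELD (S3662 team project, helper9): a field with four elements is `K4`

helper35.
-/

set_option autoImplicit false

universe u

namespace Cfsg.Agent.H35.PG

open Cfsg.Agent.H9.PG

theorem field : StField.{u} := by
  intro F _ _ hF
  exact ⟨FiniteField.ringEquivOfCardEq (K := F) (K' := K4) (by rw [hF, Cfsg.Agent.H94.HS.F4.card_eq])⟩

end Cfsg.Agent.H35.PG

namespace Cfsg.Agent.H35.PGFieldCheck

example : Cfsg.Agent.H9.PG.StField.{u} := Cfsg.Agent.H35.PG.field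

end Cfsg.Agent.H35.PGFieldCheck
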