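import Mathlib
import Cfsg.Agent.H52.SoDefs

/-!
# SO-ABS (S2943 team project, helper52): the abstract uniqueness statement from FINA, UNIQ, INJ

helper35.
-/

set_option autoImplicit false

universe u

namespace Cfsg.Agent.H35.So

open Cfsg Cfsg.Agent.H52.Sn
open scoped commutatorElement

/-- if the generators commute modulo the normal subgroup `C`, so do the generated subgroups -/
theorem comm_closure_le {X : Type u} [Group X] (C : Subgroup X) [C.Normal] (S₁ S₂ : Set X)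
    (h : ∀ x ∈ S₁, ∀ y ∈ S₂, x * y * x⁻¹ * y⁻¹ ∈ C) :
    ⁅Subgroup.closure S₁, Subgroup.closure S₂⁆ ≤ C := by
  obtain ⟨π, hπ⟩ : ∃ π : X →* X ⧸ C, π = QuotientGroup.mk' C := ⟨_, rfl⟩
  have hπ1 : ∀ w : X, π w = 1 ↔ w ∈ C := by
    intro w; rw [hπ]; exact QuotientGroup.eq_one_iff w
  have h0 : ∀ x ∈ S₁, ∀ y ∈ S₂, Commute (π x) (π y) := by
    intro x hx y hy
    rw [← commutatorElement_eq_one_iff_commute, ← map_commutatorElement]
    exact (hπ1 _).mpr (by rw [commutatorElement_def]; exact h x hx y hy)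
  have h1 : ∀ x ∈ S₁, ∀ y ∈ Subgroup.closure S₂, Commute (π x) (π y) := by
    intro x hx y hy
    induction hy using Subgroup.closure_induction with
    | mem y hy => exact h0 x hx y hy
    | one => rw [map_one]; exact Commute.one_right _
    | mul a b _ _ iha ihb => rw [map_mul]; exact iha.mul_right ihb
    | inv a _ iha => rw [map_inv]; exact iha.inv_right
  have h2 : ∀ x ∈ Subgroup.closure S₁, ∀ y ∈ Subgroup.closure S₂, Commute (π x) (π y) := by
    intro x hx y hy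
    induction hx using Subgroup.closure_induction with
    | mem x hx => exact h1 x hx y hy
    | one => rw [map_one]; exact Commute.one_left _
    | mul a b _ _ iha ihb => rw [map_mul]; exact iha.mul_left ihb
    | inv a _ iha => rw [map_inv]; exact iha.inv_left
  rw [Subgroup.commutator_le]
  intro x hx y hy
  apply (hπ1 _).mp
  rw [map_commutatorElement, commutatorElement_eq_one_iff_commute]
  exact h2 x hx y hy

theorem abs (hA : StFinA.{u}) (hU : StUniq.{u}) (hI : StInj.{u}) : StAbs.{u} := by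
  intro X _ _ V T Q M J K₁ O₁ K₂ O₂ _ hV F1 F2 hc1 hc2 hne
  have := F1.hC
  have := F1.hM
  -- `O_i ≤ Q ≤ C`
  have hO1 : O₁ ≤ Q :=
    (hA T _ Q M J K₁ O₁ F1.hT F1.hTi F1.hC F1.hQ F1.hM F1.hTC F1.hJM F1.hcomm F1.hKgen F1.hKJ
      F1.hOK F1.hO).1
  have hO2 : O₂ ≤ Q :=
    (hA T _ Q M J K₂ O₂ F2.hT F2.hTi F2.hC F2.hQ F2.hM F2.hTC F2.hJM F2.hcomm F2.hKgen F2.hKJ
      F2.hOK F2.hO).1
  -- `K_i ≤ M`
  have hKM : ∀ K : Subgroup X, ⁅K, J⁆ = K → K ≤ M := fun K hK =>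
    hK.symm.le.trans ((Subgroup.commutator_mono le_rfl F1.hJM).trans
      (Subgroup.commutator_le_right K M))
  have hK1M := hKM K₁ F1.hKJ
  have hK2M := hKM K₂ F2.hKJ
  -- `[K₁, K₂] ≤ C`
  have hKK : ⁅K₁, K₂⁆ ≤ Subgroup.centralizer (V : Set X) := by
    have h0 := comm_closure_le (Subgroup.centralizer (V : Set X))
      {g : X | g ∈ K₁ ∧ Odd (orderOf g)} {g : X | g ∈ K₂ ∧ Odd (orderOf g)}
      (fun x hx y hy => F1.hcomm x (hK1M hx.1) y (hK2M hy.1) hx.2 hy.2)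
    rwa [F1.hKgen, F2.hKgen] at h0
  -- UNIQ
  have hsup : K₁ ⊔ Subgroup.centralizer (V : Set X) = K₂ ⊔ Subgroup.centralizer (V : Set X) :=
    hU V K₁ K₂ O₁ O₂ hV F1.hOK (hO1.trans F1.hQC) F1.hO3 F2.hOK (hO2.trans F1.hQC) F2.hO3 hKK
      hc1 hc2 hne
  -- `[C, J] ≤ Q`
  have hCJ : ⁅Subgroup.centralizer (V : Set X), J⁆ ≤ Q := by
    rw [Subgroup.commutator_le]
    intro c hc a ha
    apply F1.hTC
    have haT : a ∈ T := F1.hJT ha
    refine ⟨?_, ?_⟩
    · have h1 : c * a * c⁻¹ ∈ T := ((Subgroup.mem_normalizer_iff.mp (F1.hCT hc)) a).mp haT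
      rw [commutatorElement_def]
      exact T.mul_mem h1 (T.inv_mem haT)
    · have h1 : a * c⁻¹ * a⁻¹ ∈ Subgroup.centralizer (V : Set X) :=
        F1.hC.conj_mem _ (Subgroup.inv_mem _ hc) a
      have h2 : ⁅c, a⁆ = c * (a * c⁻¹ * a⁻¹) := by
        rw [commutatorElement_def]; group
      rw [h2]
      exact Subgroup.mul_mem _ hc h1
  exact hI _ Q J K₁ K₂ F1.hC F1.hQ F1.hQ2 hCJ F1.hKgen F1.hKJ F1.hQK F2.hKgen F2.hKJ F2.hQK hsup

end Cfsg.Agent.H35.So

namespace Cfsg.Agent.H35.SoAbsCheck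

open Cfsg.Agent.H52.Sn in
example (hA : StFinA.{u}) (hU : StUniq.{u}) (hI : StInj.{u}) : StAbs.{u} :=
  Cfsg.Agent.H35.So.abs hA hU hI

end Cfsg.Agent.H35.SoAbsCheck
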