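import Mathlib
import Cfsg.Agent.H52.SoDefs

/-!
# SO-INJ (S2943 team project, helper52): a component is determined by its image modulo `C`

helper35.
-/

set_option autoImplicit false

universe u

namespace Cfsg.Agent.H35.So

open Cfsg Cfsg.Agent.H52.Sn
open scoped commutatorElement

/-- an element of odd order of `K ⊔ Q`, `Q` a 2-group normalizing `K`, lies in `K` -/
theorem odd_mem_of_sup {X : Type u} [Group X] (K Q : Subgroup X) (hQ2 : IsPGroup 2 ↥Q)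
    (hQK : Q ≤ Subgroup.normalizer (K : Set X)) (g : X) (hg : g ∈ K ⊔ Q)
    (hodd : Odd (orderOf g)) : g ∈ K := by
  have hg' : g ∈ Q ⊔ K := by rwa [sup_comm] at hg
  have hN : (K.subgroupOf (Q ⊔ K)).Normal := Subgroup.normal_subgroupOf_sup_of_le_normalizer hQK
  have htop : (Q.subgroupOf (Q ⊔ K)) ⊔ (K.subgroupOf (Q ⊔ K)) = ⊤ := by
    rw [← Subgroup.subgroupOf_sup le_sup_left le_sup_right, Subgroup.subgroupOf_self]
  have hmem : (⟨g, hg'⟩ : ↥(Q ⊔ K)) ∈ (Q.subgroupOf (Q ⊔ K)) ⊔ (K.subgroupOf (Q ⊔ K)) := by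
    rw [htop]; exact Subgroup.mem_top _
  obtain ⟨y, hy, z, hz, hyz⟩ := Subgroup.mem_sup_of_normal_right.mp hmem
  have hyQ : (y : X) ∈ Q := Subgroup.mem_subgroupOf.mp hy
  have hzK : (z : X) ∈ K := Subgroup.mem_subgroupOf.mp hz
  have hgyz : g = (y : X) * (z : X) := by
    have h0 := congrArg Subtype.val hyz
    exact h0.symm
  obtain ⟨π, hπ⟩ : ∃ π : ↥(Q ⊔ K) →* ↥(Q ⊔ K) ⧸ K.subgroupOf (Q ⊔ K),
      π = QuotientGroup.mk' (K.subgroupOf (Q ⊔ K)) := ⟨_, rfl⟩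
  have hπ1 : ∀ w : ↥(Q ⊔ K), π w = 1 ↔ w ∈ K.subgroupOf (Q ⊔ K) := by
    intro w; rw [hπ]; exact QuotientGroup.eq_one_iff w
  have hπz : π z = 1 := (hπ1 z).mpr hz
  have hπg : π ⟨g, hg'⟩ = π y := by rw [← hyz, map_mul, hπz, mul_one]
  obtain ⟨a, ha⟩ := hQ2 ⟨(y : X), hyQ⟩
  have hy2 : y ^ 2 ^ a = 1 := by
    apply Subtype.ext
    have h0 := congrArg Subtype.val ha
    simpa using h0
  have h1 : (π y) ^ 2 ^ a = 1 := by rw [← map_pow, hy2, map_one]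
  have h2 : (π y) ^ orderOf g = 1 := by
    rw [← hπg, ← map_pow]
    have h0 : (⟨g, hg'⟩ : ↥(Q ⊔ K)) ^ orderOf g = 1 := by
      apply Subtype.ext; simp [pow_orderOf_eq_one]
    rw [h0, map_one]
  have h3 : π y = 1 := by
    have hd1 := orderOf_dvd_of_pow_eq_one h1
    have hd2 := orderOf_dvd_of_pow_eq_one h2
    have hcop : Nat.Coprime (2 ^ a) (orderOf g) :=
      Nat.Coprime.pow_left a (Nat.coprime_two_left.mpr hodd)
    have h4 : orderOf (π y) ∣ 1 := by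
      have h5 := Nat.dvd_gcd hd1 hd2
      rwa [hcop.gcd_eq_one] at h5
    exact orderOf_eq_one_iff.mp (Nat.dvd_one.mp h4)
  have hyK : (y : X) ∈ K := Subgroup.mem_subgroupOf.mp ((hπ1 y).mp h3)
  rw [hgyz]; exact K.mul_mem hyK hzK

/-- `[KC, J] ≤ KQ` when `[C, J] ≤ Q` and `[K, J] = K` -/
theorem comm_sup_le {X : Type u} [Group X] (C Q J K : Subgroup X) (hC : C.Normal) (hQ : Q.Normal)
    (hCJ : ⁅C, J⁆ ≤ Q) (hKJ : ⁅K, J⁆ = K) : ⁅K ⊔ C, J⁆ ≤ K ⊔ Q := by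
  rw [Subgroup.commutator_le]
  intro g hg a ha
  have := hC
  obtain ⟨k, hk, c, hc, rfl⟩ := Subgroup.mem_sup_of_normal_right.mp hg
  have h1 : ⁅k * c, a⁆ = (k * ⁅c, a⁆ * k⁻¹) * ⁅k, a⁆ := by
    simp only [commutatorElement_def]; group
  rw [h1]
  have h2 : ⁅c, a⁆ ∈ Q := hCJ (Subgroup.commutator_mem_commutator hc ha)
  have h3 : k * ⁅c, a⁆ * k⁻¹ ∈ Q := hQ.conj_mem _ h2 k
  have h4 : ⁅k, a⁆ ∈ K := by
    have h5 := Subgroup.commutator_mem_commutator hk ha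
    rwa [hKJ] at h5
  exact (K ⊔ Q).mul_mem (Subgroup.mem_sup_right h3) (Subgroup.mem_sup_left h4)

theorem inj : StInj.{u} := by
  intro X _ _ C Q J K₁ K₂ hC hQ hQ2 hCJ hg1 hJ1 hN1 hg2 hJ2 hN2 hKC
  have h12 : K₁ ≤ K₂ ⊔ Q := by
    calc K₁ = ⁅K₁, J⁆ := hJ1.symm
      _ ≤ ⁅K₁ ⊔ C, J⁆ := Subgroup.commutator_mono le_sup_left le_rfl
      _ = ⁅K₂ ⊔ C, J⁆ := by rw [hKC]
      _ ≤ K₂ ⊔ Q := comm_sup_le C Q J K₂ hC hQ hCJ hJ2
  have h21 : K₂ ≤ K₁ ⊔ Q := by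
    calc K₂ = ⁅K₂, J⁆ := hJ2.symm
      _ ≤ ⁅K₂ ⊔ C, J⁆ := Subgroup.commutator_mono le_sup_left le_rfl
      _ = ⁅K₁ ⊔ C, J⁆ := by rw [hKC]
      _ ≤ K₁ ⊔ Q := comm_sup_le C Q J K₁ hC hQ hCJ hJ1
  have key : ∀ (K K' : Subgroup X),
      Subgroup.closure {g : X | g ∈ K ∧ Odd (orderOf g)} = K → K ≤ K' ⊔ Q →
      Q ≤ Subgroup.normalizer (K' : Set X) → K ≤ K' := by
    intro K K' hgen hle hN
    have hsub : Subgroup.closure {g : X | g ∈ K ∧ Odd (orderOf g)} ≤ K' :=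
      (Subgroup.closure_le _).mpr
        (fun g hg => odd_mem_of_sup K' Q hQ2 hN g (hle hg.1) hg.2)
    exact hgen.symm.le.trans hsub
  exact le_antisymm (key K₁ K₂ hg1 h12 hN2) (key K₂ K₁ hg2 h21 hN1)

end Cfsg.Agent.H35.So

namespace Cfsg.Agent.H35.SoInjCheck

example : Cfsg.Agent.H52.Sn.StInj.{u} := Cfsg.Agent.H35.So.inj

end Cfsg.Agent.H35.SoInjCheck
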