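import Mathlib
import Cfsg.Agent.H66.SpDefs
import Cfsg.Agent.H35.SoInj

/-!
# SP-KN (S2944 team project, helper66): `K` is normal when all its conjugates lie in `K Q`

helper35.
-/

set_option autoImplicit false

universe u

namespace Cfsg.Agent.H35.Sp

open Cfsg Cfsg.Agent.H52.Sn Cfsg.Agent.H66.Sp

theorem kn : StKN.{u} := by
  intro X _ _ Q K hQ hQ2 hQK hgen hn
  have hle : ∀ n : X, K.map (MulAut.conj n).toMonoidHom ≤ K := by
    intro n
    have h1 : (Subgroup.closure {g : X | g ∈ K ∧ Odd (orderOf g)}).map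
        (MulAut.conj n).toMonoidHom ≤ K := by
      rw [MonoidHom.map_closure, Subgroup.closure_le]
      rintro _ ⟨k, ⟨hk, hodd⟩, rfl⟩
      have h2 : (MulAut.conj n).toMonoidHom k ∈ K ⊔ Q := hn n ⟨k, hk, rfl⟩
      have h3 : Odd (orderOf ((MulAut.conj n).toMonoidHom k)) := by
        rw [orderOf_injective _ (MulAut.conj n).injective k]; exact hodd
      exact Cfsg.Agent.H35.So.odd_mem_of_sup K Q hQ2 hQK _ h2 h3
    rwa [hgen] at h1
  constructor
  intro k hk n
  have h4 := hle n ⟨k, hk, rfl⟩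
  simpa using h4

end Cfsg.Agent.H35.Sp

namespace Cfsg.Agent.H35.SpKNCheck

example : Cfsg.Agent.H66.Sp.StKN.{u} := Cfsg.Agent.H35.Sp.kn

end Cfsg.Agent.H35.SpKNCheck
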