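import Mathlib
import Cfsg.Agent.H66.SpDefs
import Cfsg.Agent.H52.SpDefs

/-!
# SP-ODDQ (S2944 team project, helper66), light part: ODDQ is a special case of helper52's GLP

helper35.  `StOddQ` has the hypotheses of `Cfsg.Agent.H52.Sn.StGLP` and two more, with the same
conclusion.  (`StGLP` is on main: `Cfsg.Agent.H40.Sn.glp Cfsg.Agent.H84.Sn.glpA`.)
-/

set_option autoImplicit false

universe u

namespace Cfsg.Agent.H35.Sp

open Cfsg Cfsg.Agent.H52.Sn Cfsg.Agent.H66.Sp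

theorem oddQ_of_glp (h : StGLP.{u}) : StOddQ.{u} := by
  intro X _ _ V T _ hV hS _ hT hTi hQC _ hCT
  exact h T V hV hS hT hTi hQC hCT

end Cfsg.Agent.H35.Sp

namespace Cfsg.Agent.H35.SpOddQCheck

example (h : Cfsg.Agent.H52.Sn.StGLP.{u}) : Cfsg.Agent.H66.Sp.StOddQ.{u} :=
  Cfsg.Agent.H35.Sp.oddQ_of_glp h

end Cfsg.Agent.H35.SpOddQCheck
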