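import Mathlib
import Cfsg.Agent.H78.SvDefs

set_option autoImplicit false

/-!
# Piece HOMNE of S2425 (helper35, for helper78)

Equivariant maps between simple invariant subspaces with different characteristic polynomials
vanish.
-/

namespace Cfsg.Agent.H35.Sv

open Cfsg.Agent.H78.Sv
open scoped MatrixGroups

section inv
variable {F : Type*} [Field F] {V : Type*} [AddCommGroup V] [Module F V] [FiniteDimensional F V]

omit [FiniteDimensional F V] in
/-- A nonzero equivariant map between atoms is bijective. -/
theorem bijective_of_ne_zero (T : Module.End F V) (A B : ↥(Module.End.invtSubmodule T))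
    (hA : IsAtom A) (hB : IsAtom B) (φ : ↥B.1 →ₗ[F] ↥A.1)
    (hφ : ∀ u : ↥B.1, φ (resT T B u) = resT T A (φ u)) (hne : φ ≠ 0) :
    Function.Bijective φ := by
  have hK : (LinearMap.ker φ).map B.1.subtype ∈ Module.End.invtSubmodule T := by
    rw [Module.End.mem_invtSubmodule_iff_forall_mem_of_mem]
    rintro x ⟨u, hu, rfl⟩
    refine ⟨resT T B u, ?_, rfl⟩
    have hu' : φ u = 0 := hu
    show φ (resT T B u) = 0
    rw [hφ, hu', map_zero]
  have hKle : (⟨_, hK⟩ : ↥(Module.End.invtSubmodule T)) ≤ B := by
    show (LinearMap.ker φ).map B.1.subtype ≤ B.1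
    exact Submodule.map_subtype_le _ _
  have hker : LinearMap.ker φ = ⊥ := by
    rcases hB.le_iff.1 hKle with h1 | h1
    · have h2 : (LinearMap.ker φ).map B.1.subtype = ⊥ := congrArg Subtype.val h1
      exact Submodule.map_injective_of_injective B.1.injective_subtype
        (h2.trans (Submodule.map_bot _).symm)
    · exfalso
      have h2 : (LinearMap.ker φ).map B.1.subtype = B.1 := congrArg Subtype.val h1
      apply hne
      apply LinearMap.ext
      intro u
      have hu : (u : V) ∈ (LinearMap.ker φ).map B.1.subtype := by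
        rw [h2]
        exact u.2
      obtain ⟨u', hu', hu'u⟩ := hu
      have hEq : u' = u := Subtype.ext hu'u
      subst hEq
      exact hu'
  have hR : (LinearMap.range φ).map A.1.subtype ∈ Module.End.invtSubmodule T := by
    rw [Module.End.mem_invtSubmodule_iff_forall_mem_of_mem]
    rintro x ⟨a, ⟨u, rfl⟩, rfl⟩
    exact ⟨resT T A (φ u), ⟨resT T B u, hφ u⟩, rfl⟩
  have hRle : (⟨_, hR⟩ : ↥(Module.End.invtSubmodule T)) ≤ A := by
    show (LinearMap.range φ).map A.1.subtype ≤ A.1
    exact Submodule.map_subtype_le _ _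
  have hrange : LinearMap.range φ = ⊤ := by
    rcases hA.le_iff.1 hRle with h1 | h1
    · exfalso
      have h2 : (LinearMap.range φ).map A.1.subtype = ⊥ := congrArg Subtype.val h1
      have h3 : LinearMap.range φ = ⊥ :=
        Submodule.map_injective_of_injective A.1.injective_subtype
          (h2.trans (Submodule.map_bot _).symm)
      exact hne (LinearMap.range_eq_bot.1 h3)
    · have h2 : (LinearMap.range φ).map A.1.subtype = A.1 := congrArg Subtype.val h1
      rw [eq_top_iff]
      rintro a -
      have ha : (a : V) ∈ (LinearMap.range φ).map A.1.subtype := by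
        rw [h2]
        exact a.2
      obtain ⟨a', ha', ha'a⟩ := ha
      have hEq : a' = a := Subtype.ext ha'a
      subst hEq
      exact ha'
  exact ⟨LinearMap.ker_eq_bot.1 hker, LinearMap.range_eq_top.1 hrange⟩

theorem card_homT_of_ne [Finite F] (T : Module.End F V) (A B : ↥(Module.End.invtSubmodule T))
    (hA : IsAtom A) (hB : IsAtom B) (h : cp T B ≠ cp T A) : Nat.card (HomT T B A) = 1 := by
  have hzero : ∀ φ : HomT T B A, φ.1 = 0 := by
    rintro ⟨φ, hφ⟩
    by_contra hne
    have hbij := bijective_of_ne_zero T A B hA hB φ hφ hne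
    let e : ↥B.1 ≃ₗ[F] ↥A.1 := LinearEquiv.ofBijective φ hbij
    have hconj : e.conj (resT T B) = resT T A := by
      apply LinearMap.ext
      intro a
      obtain ⟨u, rfl⟩ := e.surjective a
      rw [LinearEquiv.conj_apply, LinearMap.comp_apply, LinearMap.comp_apply]
      simp only [LinearEquiv.coe_coe, LinearEquiv.symm_apply_apply]
      exact hφ u
    apply h
    unfold cp
    rw [← hconj, LinearEquiv.charpoly_conj]
  rw [Nat.card_eq_one_iff_unique]
  refine ⟨⟨fun φ ψ => Subtype.ext ((hzero φ).trans (hzero ψ).symm)⟩, ⟨⟨0, fun u => ?_⟩⟩⟩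
  simp

end inv

end Cfsg.Agent.H35.Sv

namespace Cfsg.Agent.H35.SvHOMNECheck

open Cfsg.Agent.H78.Sv
open scoped MatrixGroups

section inv
variable {F : Type*} [Field F] {V : Type*} [AddCommGroup V] [Module F V] [FiniteDimensional F V]

example [Finite F] (T : Module.End F V) (A B : ↥(Module.End.invtSubmodule T))
    (hA : IsAtom A) (hB : IsAtom B) (h : cp T B ≠ cp T A) : Nat.card (HomT T B A) = 1 :=
  Cfsg.Agent.H35.Sv.card_homT_of_ne T A B hA hB h

end inv

end Cfsg.Agent.H35.SvHOMNECheck
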