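import Mathlib
import Cfsg.Agent.H17.TgDefs
import Cfsg.Agent.H35.TgAux

/-!
# S1904 team project (helper17), piece TG-QEX2
If `B` has exponent at least 8, then `C_X(Ω₂(B)) ≠ B`:
`qex2 (hVB) (hSq) (hC2) (hC3) (hIdx2) : StQex2`.
-/

set_option autoImplicit false

universe u

namespace Cfsg.Agent.H35.Tg

open Cfsg.Agent.H17.Tg

/-- TG-QEX2 -/
theorem qex2 (hVB : StVB.{u}) (hSq : StSq.{u}) (hC2 : StC2.{u}) (hC3 : StC3.{u})
    (hIdx2 : StIdx2.{u}) : StQex2.{u} := by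
  intro X _ _ A hH B hB hnc hex hC
  classical
  obtain ⟨hn, hAI, hab⟩ := hB.1
  obtain ⟨hVc, hV4, -⟩ := hVB X A hH B hB.1 hnc
  have hcen1 : ∀ b ∈ B, b ^ 2 ^ 1 = 1 → b ∈ Subgroup.center X :=
    fun b hb h => hVc b hb (by simpa using h)
  have hC3' := (hC3 X A hH B hB.1 hnc 1 hcen1).2
  have hsqB : ∀ x : X, x ^ 2 ∈ B := fun x =>
    hC (x ^ 2) (fun b hb hb4 => hC3' x b hb hb4)
  obtain ⟨b₀, hb₀, hb₀4⟩ := hex
  have sq1 := hSq X A hH B hB.1 hnc 1 b₀ hb₀ (by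
    intro h
    apply hb₀4
    have e : b₀ ^ 4 = (b₀ ^ 2 ^ 1) ^ 2 := by rw [← pow_mul]; norm_num
    rw [e, h, one_pow])
  have sq2 := hSq X A hH B hB.1 hnc 2 b₀ hb₀ hb₀4
  -- every element outside `B` inverts `Ω₂(B)`
  have key : ∀ x : X, x ∉ B → ∀ d ∈ B, d ^ 4 = 1 → x * d * x⁻¹ = d⁻¹ := by
    intro x hx
    have hker : ∀ b' ∈ B, b' ^ 4 = 1 → x * b' = b' * x → b' ^ 2 = 1 := by
      intro b' hb' hb'4 hcomm
      by_contra hne
      apply hx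
      apply hC
      intro b'' hb'' hb''4
      exact hC2 X A hH B hB.1 hnc 1 hcen1 x b' hb' hb'4 (by simpa using hne) hcomm b'' hb'' hb''4
    have hcomV : ∀ b ∈ B, b ^ 4 = 1 → (b * x * b⁻¹ * x⁻¹) ^ 2 = 1 := by
      intro b hb hb4
      rw [com_sq B hn hab hb x]
      have hz : b ^ 2 ∈ Subgroup.center X :=
        hVc _ (B.pow_mem hb 2) (by rw [← pow_mul]; exact hb4)
      exact com_eq_one_of_comm ((Subgroup.mem_center_iff.mp hz x).symm)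
    have hsurj : ∀ w ∈ B, w ^ 2 = 1 → ∃ b' ∈ B, b' ^ 4 = 1 ∧ b' * x * b'⁻¹ * x⁻¹ = w := by
      have hch : ∀ v : {v : X // v ∈ B ∧ v ^ 2 = 1}, ∃ s ∈ B, s ^ 2 = v.1 :=
        fun v => sq1 v.1 v.2.1 (by simpa using v.2.2)
      choose s hsB hs2 using hch
      have hs4 : ∀ v, (s v) ^ 4 = 1 := fun v => by
        have e : (s v) ^ 4 = ((s v) ^ 2) ^ 2 := by rw [← pow_mul]
        rw [e, hs2, v.2.2]
      let θ : {v : X // v ∈ B ∧ v ^ 2 = 1} → {v : X // v ∈ B ∧ v ^ 2 = 1} := fun v =>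
        ⟨s v * x * (s v)⁻¹ * x⁻¹, com_mem B hn (hsB v) x, hcomV _ (hsB v) (hs4 v)⟩
      have hinj : Function.Injective θ := by
        intro v v' hvv
        have h : s v * x * (s v)⁻¹ * x⁻¹ = s v' * x * (s v')⁻¹ * x⁻¹ :=
          congrArg Subtype.val hvv
        have hcomm : x * ((s v')⁻¹ * s v) = ((s v')⁻¹ * s v) * x := by
          symm
          calc ((s v')⁻¹ * s v) * x
              = (s v')⁻¹ * (s v * x * (s v)⁻¹ * x⁻¹) * x * s v := by group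
            _ = (s v')⁻¹ * (s v' * x * (s v')⁻¹ * x⁻¹) * x * s v := by rw [h]
            _ = x * ((s v')⁻¹ * s v) := by group
        have hcm : Commute (s v')⁻¹ (s v) := hab _ (B.inv_mem (hsB v')) _ (hsB v)
        have ht4 : ((s v')⁻¹ * s v) ^ 4 = 1 := by
          rw [hcm.mul_pow, inv_pow, hs4, hs4, inv_one, one_mul]
        have ht2 := hker _ (B.mul_mem (B.inv_mem (hsB v')) (hsB v)) ht4 hcomm
        rw [hcm.mul_pow, inv_pow, hs2, hs2] at ht2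
        exact Subtype.ext (inv_mul_eq_one.mp ht2).symm
      have hsur := Finite.injective_iff_surjective.mp hinj
      intro w hw hw2
      obtain ⟨v, hv⟩ := hsur ⟨w, hw, hw2⟩
      exact ⟨s v, hsB v, hs4 v, congrArg Subtype.val hv⟩
    intro d hd hd4
    have hd2 : (d ^ 2) ^ 2 = 1 := by rw [← pow_mul]; exact hd4
    obtain ⟨b', hb', hb'4, hb'c⟩ := hsurj (d ^ 2) (B.pow_mem hd 2) hd2
    obtain ⟨b, hb, hbsq⟩ := sq2 b' hb' hb'4
    have hcB : b * x * b⁻¹ * x⁻¹ ∈ B := com_mem B hn hb x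
    have hc2 : (b * x * b⁻¹ * x⁻¹) ^ 2 = d ^ 2 := by
      rw [com_sq B hn hab hb x, hbsq]; exact hb'c
    have hxc : x * (b * x * b⁻¹ * x⁻¹) * x⁻¹ = (b * x * b⁻¹ * x⁻¹)⁻¹ := by
      have h1 : b * x ^ 2 = x ^ 2 * b := hab b hb _ (hsqB x)
      have h2 : b * x ^ 2 * b⁻¹ * (x ^ 2)⁻¹ = 1 := com_eq_one_of_comm h1
      have h3 : b * x ^ 2 * b⁻¹ * (x ^ 2)⁻¹ =
          (b * x * b⁻¹ * x⁻¹) * (x * (b * x * b⁻¹ * x⁻¹) * x⁻¹) := by
        rw [pow_two]; group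
      rw [h3] at h2
      exact eq_inv_of_mul_eq_one_right h2
    have hcm : Commute (b * x * b⁻¹ * x⁻¹)⁻¹ d := hab _ (B.inv_mem hcB) _ hd
    have hv2 : ((b * x * b⁻¹ * x⁻¹)⁻¹ * d) ^ 2 = 1 := by
      rw [hcm.mul_pow, inv_pow, hc2, inv_mul_cancel]
    have hvc : (b * x * b⁻¹ * x⁻¹)⁻¹ * d ∈ Subgroup.center X :=
      hVc _ (B.mul_mem (B.inv_mem hcB) hd) hv2
    exact inv_of_parts x d (b * x * b⁻¹ * x⁻¹) hxc hv2 hvc
  -- an element outside `B`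
  obtain ⟨x, hx⟩ : ∃ x : X, x ∉ B := by
    by_contra hall
    apply hnc
    intro b hb
    rw [Subgroup.mem_center_iff]
    intro g
    have hg : g ∈ B := by
      by_contra hg
      exact hall ⟨g, hg⟩
    exact hab g hg b hb
  obtain ⟨x', hx', hxx'⟩ : ∃ x' : X, x' ∉ B ∧ x * x' ∉ B := by
    by_contra hno
    apply hIdx2 X A hH B hAI
    rw [Subgroup.index_eq_two_iff]
    refine ⟨x, fun b => ?_⟩
    by_cases hb : b ∈ B
    · right
      refine ⟨hb, fun hbx => hx ?_⟩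
      have e : x = b⁻¹ * (b * x) := by group
      rw [e]; exact B.mul_mem (B.inv_mem hb) hbx
    · left
      refine ⟨?_, hb⟩
      have hxb : x * b ∈ B := by
        by_contra h
        exact hno ⟨b, hb, h⟩
      have e : b * x = x⁻¹ * (x * b) * x⁻¹⁻¹ := by group
      rw [e]; exact hn.conj_mem _ hxb _
  -- an element of order 4 in `B`
  obtain ⟨v, hvB, hv2, hv1⟩ : ∃ v ∈ B, v ^ 2 = 1 ∧ v ≠ 1 := by
    by_contra hno
    have hsub : Subsingleton {v : X // v ∈ B ∧ v ^ 2 = 1} := ⟨fun a b => Subtype.ext (by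
      have ha : a.1 = 1 := by
        by_contra h
        exact hno ⟨a.1, a.2.1, a.2.2, h⟩
      have hb : b.1 = 1 := by
        by_contra h
        exact hno ⟨b.1, b.2.1, b.2.2, h⟩
      rw [ha, hb])⟩
    have hle := Finite.card_le_one_iff_subsingleton.mpr hsub
    omega
  obtain ⟨d, hdB, hd2⟩ := sq1 v hvB (by simpa using hv2)
  have hd4 : d ^ 4 = 1 := by
    have e : d ^ 4 = (d ^ 2) ^ 2 := by rw [← pow_mul]
    rw [e, hd2, hv2]
  have h1 := key x hx d hdB hd4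
  have h2 := key x' hx' d hdB hd4
  have h3 := key (x * x') hxx' d hdB hd4
  have h4 : x * x' * d * (x * x')⁻¹ = d := by
    calc x * x' * d * (x * x')⁻¹ = x * (x' * d * x'⁻¹) * x⁻¹ := by group
      _ = x * d⁻¹ * x⁻¹ := by rw [h2]
      _ = (x * d * x⁻¹)⁻¹ := by group
      _ = d := by rw [h1, inv_inv]
  rw [h4] at h3
  apply hv1
  rw [← hd2, pow_two]
  exact mul_eq_one_iff_eq_inv.mpr h3

end Cfsg.Agent.H35.Tg

namespace Cfsg.Agent.H35.TgQex2Check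

open Cfsg Cfsg.Agent.H17.Tg

example (hVB : StVB.{u}) (hSq : StSq.{u}) (hC2 : StC2.{u}) (hC3 : StC3.{u})
    (hIdx2 : StIdx2.{u}) :
    ∀ (X : Type u) [Group X] [Finite X] (A : Subgroup (MulAut X)), Hyp X A →
    ∀ B : Subgroup X, MaxNAI A B → ¬ B ≤ Subgroup.center X → (∃ b ∈ B, b ^ 4 ≠ 1) →
      (∀ y : X, (∀ b ∈ B, b ^ 4 = 1 → y * b = b * y) → y ∈ B) → False :=
  Cfsg.Agent.H35.Tg.qex2 hVB hSq hC2 hC3 hIdx2

example (hVB : StVB.{u}) (hSq : StSq.{u}) (hC2 : StC2.{u}) (hC3 : StC3.{u})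
    (hIdx2 : StIdx2.{u}) : Cfsg.Agent.H17.Tg.StQex2.{u} :=
  Cfsg.Agent.H35.Tg.qex2 hVB hSq hC2 hC3 hIdx2

end Cfsg.Agent.H35.TgQex2Check
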