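import Mathlib
import Cfsg.Agent.H64.TtDefs

/-!
# S3385 team project (helper64), piece TT-C4
`[x_0, x_λ] ∈ X[k-λ, 2λ-k]` if `λ ≤ k-1`:
`c4 (hcard) (hc1) (hsplit) (hcomm) : C4Stmt`.
-/

set_option autoImplicit false

universe u

namespace Cfsg.Agent.H35.Tt

open Cfsg.Agent.H64.Tt

section Aux

variable {G : Type u} [Group G]

theorem X_comm (x : ℤ → G) (a b : ℤ) (w : G)
    (h : ∀ i, a ≤ i → i ≤ b → x i * w = w * x i) : ∀ e ∈ X x a b, e * w = w * e := by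
  have hle : X x a b ≤ Subgroup.centralizer {w} := by
    rw [X_le_iff]
    intro i h1 h2
    rw [Subgroup.mem_centralizer_iff]
    intro v hv
    rw [Set.mem_singleton_iff] at hv
    rw [hv]
    exact (h i h1 h2).symm
  intro e he
  exact ((Subgroup.mem_centralizer_iff.mp (hle he)) w (Set.mem_singleton w)).symm

theorem X_comm2 (x : ℤ → G) (a b a' b' : ℤ)
    (h : ∀ i, a ≤ i → i ≤ b → ∀ m, a' ≤ m → m ≤ b' → x i * x m = x m * x i) :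
    ∀ e ∈ X x a b, ∀ c ∈ X x a' b', e * c = c * e := by
  intro e he c hc
  have h1 : ∀ m, a' ≤ m → m ≤ b' → x m * e = e * x m := fun m hm1 hm2 =>
    ((X_comm x a b (x m) (fun i hi1 hi2 => h i hi1 hi2 m hm1 hm2)) e he).symm
  exact (X_comm x a' b' e h1 c hc).symm

theorem conj_comm_aux (y a b : G) (hya : y * a = a * y)
    (hae : a * (y * b * y⁻¹ * b⁻¹) = (y * b * y⁻¹ * b⁻¹) * a)
    (hec : (y * b * y⁻¹ * b⁻¹) * (a * b * a⁻¹ * b⁻¹) =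
      (a * b * a⁻¹ * b⁻¹) * (y * b * y⁻¹ * b⁻¹)) :
    y * (a * b * a⁻¹ * b⁻¹) = (a * b * a⁻¹ * b⁻¹) * y := by
  have h1 : y * a * y⁻¹ = a := by rw [hya]; group
  have h2 : a * (y * b * y⁻¹ * b⁻¹) * a⁻¹ = y * b * y⁻¹ * b⁻¹ := by rw [hae]; group
  have h3 : (y * b * y⁻¹ * b⁻¹) * (a * b * a⁻¹ * b⁻¹) * (y * b * y⁻¹ * b⁻¹)⁻¹ =
      a * b * a⁻¹ * b⁻¹ := by rw [hec]; group
  have key : y * (a * b * a⁻¹ * b⁻¹) * y⁻¹ = a * b * a⁻¹ * b⁻¹ := by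
    calc y * (a * b * a⁻¹ * b⁻¹) * y⁻¹
        = (y * a * y⁻¹) * (y * b * y⁻¹) * (y * a * y⁻¹)⁻¹ * (y * b * y⁻¹)⁻¹ := by group
      _ = a * (y * b * y⁻¹) * a⁻¹ * (y * b * y⁻¹)⁻¹ := by rw [h1]
      _ = (a * (y * b * y⁻¹ * b⁻¹) * a⁻¹) * (a * b * a⁻¹ * b⁻¹) *
            (y * b * y⁻¹ * b⁻¹)⁻¹ := by group
      _ = (y * b * y⁻¹ * b⁻¹) * (a * b * a⁻¹ * b⁻¹) * (y * b * y⁻¹ * b⁻¹)⁻¹ := by rw [h2]
      _ = a * b * a⁻¹ * b⁻¹ := h3
  calc y * (a * b * a⁻¹ * b⁻¹) = (y * (a * b * a⁻¹ * b⁻¹) * y⁻¹) * y := by group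
    _ = (a * b * a⁻¹ * b⁻¹) * y := by rw [key]

theorem conj_comm_aux2 (y a b : G) (hyb : y * b = b * y)
    (hbe : b * (a * y * a⁻¹ * y⁻¹) = (a * y * a⁻¹ * y⁻¹) * b)
    (hec : (a * y * a⁻¹ * y⁻¹) * (a * b * a⁻¹ * b⁻¹) =
      (a * b * a⁻¹ * b⁻¹) * (a * y * a⁻¹ * y⁻¹)) :
    y * (a * b * a⁻¹ * b⁻¹) = (a * b * a⁻¹ * b⁻¹) * y := by
  have h1 : y * b * y⁻¹ = b := by rw [hyb]; group
  have h2 : b * (a * y * a⁻¹ * y⁻¹) * b⁻¹ = a * y * a⁻¹ * y⁻¹ := by rw [hbe]; group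
  have h3 : (a * y * a⁻¹ * y⁻¹)⁻¹ * (a * b * a⁻¹ * b⁻¹) * (a * y * a⁻¹ * y⁻¹) =
      a * b * a⁻¹ * b⁻¹ := by
    calc (a * y * a⁻¹ * y⁻¹)⁻¹ * (a * b * a⁻¹ * b⁻¹) * (a * y * a⁻¹ * y⁻¹)
        = (a * y * a⁻¹ * y⁻¹)⁻¹ * ((a * b * a⁻¹ * b⁻¹) * (a * y * a⁻¹ * y⁻¹)) := by group
      _ = (a * y * a⁻¹ * y⁻¹)⁻¹ * ((a * y * a⁻¹ * y⁻¹) * (a * b * a⁻¹ * b⁻¹)) := by rw [hec]
      _ = a * b * a⁻¹ * b⁻¹ := by group
  have key : y * (a * b * a⁻¹ * b⁻¹) * y⁻¹ = a * b * a⁻¹ * b⁻¹ := by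
    calc y * (a * b * a⁻¹ * b⁻¹) * y⁻¹
        = (y * a * y⁻¹) * (y * b * y⁻¹) * (y * a * y⁻¹)⁻¹ * (y * b * y⁻¹)⁻¹ := by group
      _ = (y * a * y⁻¹) * b * (y * a * y⁻¹)⁻¹ * b⁻¹ := by rw [h1]
      _ = (a * y * a⁻¹ * y⁻¹)⁻¹ * (a * b * a⁻¹ * b⁻¹) *
            (b * (a * y * a⁻¹ * y⁻¹) * b⁻¹) := by group
      _ = (a * y * a⁻¹ * y⁻¹)⁻¹ * (a * b * a⁻¹ * b⁻¹) * (a * y * a⁻¹ * y⁻¹) := by rw [h2]
      _ = a * b * a⁻¹ * b⁻¹ := h3
  calc y * (a * b * a⁻¹ * b⁻¹) = (y * (a * b * a⁻¹ * b⁻¹) * y⁻¹) * y := by group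
    _ = (a * b * a⁻¹ * b⁻¹) * y := by rw [key]

end Aux

/-- TT-C4 -/
theorem c4 (_hcard : CardStmt.{u}) (hc1 : C1Stmt.{u}) (hsplit : SplitStmt.{u})
    (hcomm : CommStmt.{u}) : C4Stmt.{u} := by
  intro G _ _ x g k l T L hkl
  obtain ⟨hcm, hncm⟩ := hcomm x g k l T L
  obtain ⟨hl1, -, hL3⟩ := L
  set c : G := x 0 * x l * (x 0)⁻¹ * (x l)⁻¹ with hcdef
  have hcne : c ≠ 1 := by
    intro h1
    apply hL3
    have h2 : x 0 * x l = c * (x l * x 0) := by rw [hcdef]; group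
    rw [h2, h1, one_mul]
  -- the step
  have step : ∀ J : ℤ, 1 ≤ J → J ≤ (k : ℤ) - l - 1 → J ≤ (l : ℤ) - 1 → c ∈ X x J ((l : ℤ) - J) →
      c ∈ X x (J + 1) ((l : ℤ) - J - 1) := by
    intro J hJ1 hJk hJl hc
    have hJle : J ≤ (l : ℤ) - J := by
      by_contra hcon
      rw [X_empty x (a := J) (b := (l : ℤ) - J) (by omega), Subgroup.mem_bot] at hc
      exact hcne hc
    -- (i)
    have hya : x (-J) * x 0 = x 0 * x (-J) := hcm (-J) 0 (abs_lt.mpr ⟨by omega, by omega⟩)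
    have he_mem : x (-J) * x l * (x (-J))⁻¹ * (x l)⁻¹ ∈ X x (-J + 1) ((l : ℤ) - 1) :=
      hc1 x g k T (-J) l (by omega) (by omega)
    have hae : x 0 * (x (-J) * x l * (x (-J))⁻¹ * (x l)⁻¹) =
        (x (-J) * x l * (x (-J))⁻¹ * (x l)⁻¹) * x 0 :=
      (X_comm x (-J + 1) ((l : ℤ) - 1) (x 0)
        (fun i h1 h2 => hcm i 0 (abs_lt.mpr ⟨by omega, by omega⟩)) _ he_mem).symm
    have hec : (x (-J) * x l * (x (-J))⁻¹ * (x l)⁻¹) * c =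
        c * (x (-J) * x l * (x (-J))⁻¹ * (x l)⁻¹) :=
      X_comm2 x (-J + 1) ((l : ℤ) - 1) J ((l : ℤ) - J)
        (fun i h1 h2 m h3 h4 => hcm i m (abs_lt.mpr ⟨by omega, by omega⟩)) _ he_mem c hc
    have hyc : x (-J) * c = c * x (-J) := conj_comm_aux (x (-J)) (x 0) (x l) hya hae hec
    -- (ii)
    have hs := (hsplit x g k T J ((l : ℤ) - J) hJle (by omega) c hc).1
    have hyK : ∀ w ∈ X x J ((l : ℤ) - J - 1), w * x (-J) = x (-J) * w :=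
      X_comm x J ((l : ℤ) - J - 1) (x (-J))
        (fun i h1 h2 => hcm i (-J) (abs_lt.mpr ⟨by omega, by omega⟩))
    have hyn : x (-J) * x ((l : ℤ) - J) ≠ x ((l : ℤ) - J) * x (-J) := by
      have h := hncm (-J)
      have e : -J + (l : ℤ) = (l : ℤ) - J := by ring
      rw [e] at h
      exact h
    have hc2 : c ∈ X x J ((l : ℤ) - J - 1) := by
      rcases hs with h | h
      · exact h
      · exfalso
        apply hyn
        have h1 := hyK _ h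
        have h2 : c * (x ((l : ℤ) - J) * x (-J)) = c * (x (-J) * x ((l : ℤ) - J)) := by
          calc c * (x ((l : ℤ) - J) * x (-J)) = c * x ((l : ℤ) - J) * x (-J) := by group
            _ = x (-J) * (c * x ((l : ℤ) - J)) := h1
            _ = (x (-J) * c) * x ((l : ℤ) - J) := by group
            _ = (c * x (-J)) * x ((l : ℤ) - J) := by rw [hyc]
            _ = c * (x (-J) * x ((l : ℤ) - J)) := by group
        exact (mul_left_cancel h2).symm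
    -- (iii)
    have hJle2 : J ≤ (l : ℤ) - J - 1 := by
      by_contra hcon
      rw [X_empty x (a := J) (b := (l : ℤ) - J - 1) (by omega), Subgroup.mem_bot] at hc2
      exact hcne hc2
    have hy2b : x ((l : ℤ) + J) * x l = x l * x ((l : ℤ) + J) :=
      hcm ((l : ℤ) + J) l (abs_lt.mpr ⟨by omega, by omega⟩)
    have he2_mem : x 0 * x ((l : ℤ) + J) * (x 0)⁻¹ * (x ((l : ℤ) + J))⁻¹ ∈
        X x (0 + 1) ((l : ℤ) + J - 1) :=
      hc1 x g k T 0 ((l : ℤ) + J) (by omega) (by omega)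
    have hbe2 : x l * (x 0 * x ((l : ℤ) + J) * (x 0)⁻¹ * (x ((l : ℤ) + J))⁻¹) =
        (x 0 * x ((l : ℤ) + J) * (x 0)⁻¹ * (x ((l : ℤ) + J))⁻¹) * x l :=
      (X_comm x (0 + 1) ((l : ℤ) + J - 1) (x l)
        (fun i h1 h2 => hcm i l (abs_lt.mpr ⟨by omega, by omega⟩)) _ he2_mem).symm
    have he2c : (x 0 * x ((l : ℤ) + J) * (x 0)⁻¹ * (x ((l : ℤ) + J))⁻¹) * c =
        c * (x 0 * x ((l : ℤ) + J) * (x 0)⁻¹ * (x ((l : ℤ) + J))⁻¹) :=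
      X_comm2 x (0 + 1) ((l : ℤ) + J - 1) J ((l : ℤ) - J - 1)
        (fun i h1 h2 m h3 h4 => hcm i m (abs_lt.mpr ⟨by omega, by omega⟩)) _ he2_mem c hc2
    have hy2c : x ((l : ℤ) + J) * c = c * x ((l : ℤ) + J) :=
      conj_comm_aux2 (x ((l : ℤ) + J)) (x 0) (x l) hy2b hbe2 he2c
    have hs2 := (hsplit x g k T J ((l : ℤ) - J - 1) hJle2 (by omega) c hc2).2
    have hy2K : ∀ w ∈ X x (J + 1) ((l : ℤ) - J - 1),
        w * x ((l : ℤ) + J) = x ((l : ℤ) + J) * w :=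
      X_comm x (J + 1) ((l : ℤ) - J - 1) (x ((l : ℤ) + J))
        (fun i h1 h2 => hcm i ((l : ℤ) + J) (abs_lt.mpr ⟨by omega, by omega⟩))
    have hy2n : x J * x ((l : ℤ) + J) ≠ x ((l : ℤ) + J) * x J := by
      have h := hncm J
      have e : J + (l : ℤ) = (l : ℤ) + J := by ring
      rw [e] at h
      exact h
    rcases hs2 with h | h
    · exact h
    · exfalso
      apply hy2n
      have h1 := hy2K _ h
      have h2 : (x J * x ((l : ℤ) + J)) * c = (x ((l : ℤ) + J) * x J) * c := by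
        calc (x J * x ((l : ℤ) + J)) * c = x J * (x ((l : ℤ) + J) * c) := by group
          _ = x J * (c * x ((l : ℤ) + J)) := by rw [hy2c]
          _ = x J * c * x ((l : ℤ) + J) := by group
          _ = x ((l : ℤ) + J) * (x J * c) := h1
          _ = (x ((l : ℤ) + J) * x J) * c := by group
      exact mul_right_cancel h2
  -- induction
  have hP : ∀ n : ℕ, (n : ℤ) ≤ (k : ℤ) - l - 1 → (n : ℤ) ≤ (l : ℤ) - 1 →
      c ∈ X x ((n : ℤ) + 1) ((l : ℤ) - n - 1) := by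
    intro n
    induction n with
    | zero =>
      intro _ _
      have h : c ∈ X x (0 + 1) ((l : ℤ) - 1) := hc1 x g k T 0 l (by omega) (by omega)
      have e1 : ((0 : ℕ) : ℤ) + 1 = 0 + 1 := by norm_num
      have e2 : (l : ℤ) - ((0 : ℕ) : ℤ) - 1 = (l : ℤ) - 1 := by norm_num
      rw [e1, e2]
      exact h
    | succ n ih =>
      intro h1 h2
      have hc := ih (by omega) (by omega)
      have e : (l : ℤ) - n - 1 = (l : ℤ) - ((n : ℤ) + 1) := by ring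
      rw [e] at hc
      have hs := step ((n : ℤ) + 1) (by omega) (by omega) (by omega) hc
      have e1 : ((n + 1 : ℕ) : ℤ) = (n : ℤ) + 1 := Nat.cast_succ n
      rw [e1]
      exact hs
  -- end
  by_cases h2l : 2 * l < k
  · exfalso
    obtain ⟨n, hn⟩ : ∃ n : ℕ, (n : ℤ) = (l : ℤ) - 1 := ⟨l - 1, by omega⟩
    have h := hP n (by omega) (by omega)
    rw [X_empty x (a := (n : ℤ) + 1) (b := (l : ℤ) - n - 1) (by omega), Subgroup.mem_bot] at h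
    exact hcne h
  · obtain ⟨n, hn⟩ : ∃ n : ℕ, (n : ℤ) = (k : ℤ) - l - 1 := ⟨k - l - 1, by omega⟩
    have h := hP n (by omega) (by omega)
    have e1 : (k : ℤ) - l = (n : ℤ) + 1 := by omega
    have e2 : 2 * (l : ℤ) - k = (l : ℤ) - n - 1 := by omega
    rw [e1, e2]
    exact h

end Cfsg.Agent.H35.Tt

namespace Cfsg.Agent.H35.TtC4Check

open Cfsg.Agent.H64.Tt

example (hcard : CardStmt.{u}) (hc1 : C1Stmt.{u}) (hsplit : SplitStmt.{u})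
    (hcomm : CommStmt.{u}) :
    ∀ {G : Type u} [Group G] [Finite G] (x : ℤ → G) (g : G) (k l : ℕ), TData x g k →
      IsLam x l → l + 1 ≤ k →
      x 0 * x l * (x 0)⁻¹ * (x l)⁻¹ ∈ X x ((k : ℤ) - l) (2 * (l : ℤ) - k) :=
  Cfsg.Agent.H35.Tt.c4 hcard hc1 hsplit hcomm

example (hcard : CardStmt.{u}) (hc1 : C1Stmt.{u}) (hsplit : SplitStmt.{u})
    (hcomm : CommStmt.{u}) : Cfsg.Agent.H64.Tt.C4Stmt.{u} :=
  Cfsg.Agent.H35.Tt.c4 hcard hc1 hsplit hcomm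

end Cfsg.Agent.H35.TtC4Check
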