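import Mathlib
import Cfsg.Agent.H77.UfDefs3

/-!
# UF-MAPCARD (S2149 team project, helper77): the image in the central quotient of a subgroup
containing the centre

helper35.
-/

set_option autoImplicit false

universe u v

namespace Cfsg.Agent.H35.Uf

open Cfsg.Agent.H77.Uf

/-- cardinality of the image of a subgroup containing the kernel -/
theorem card_map_of_ker_le {S : Type u} {T : Type v} [Group S] [Group T] (f : S →* T)
    (K : Subgroup S) (hK : f.ker ≤ K) :
    Nat.card K = Nat.card f.ker * Nat.card (K.map f) := by
  have h1 : Nat.card K = Nat.card (K ⧸ (f.domRestrict K).ker) * Nat.card (f.domRestrict K).ker :=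
    Subgroup.card_eq_card_quotient_mul_card_subgroup _
  have h2 : Nat.card (K ⧸ (f.domRestrict K).ker) = Nat.card (f.domRestrict K).range :=
    Nat.card_congr (QuotientGroup.quotientKerEquivRange (f.domRestrict K)).toEquiv
  have h3 : Nat.card (f.domRestrict K).ker = Nat.card f.ker := by
    rw [MonoidHom.ker_domRestrict]
    exact Nat.card_congr (Subgroup.subgroupOfEquivOfLe hK).toEquiv
  rw [h1, h2, h3, MonoidHom.domRestrict_range, mul_comm]

/-- the image of a proper subgroup containing the kernel is proper -/
theorem map_ne_top_of_ker_le {S : Type u} {T : Type v} [Group S] [Group T] (f : S →* T)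
    (K : Subgroup S) (hK : f.ker ≤ K) (hne : K ≠ ⊤) : K.map f ≠ ⊤ := by
  intro htop
  apply hne
  have h4 := Subgroup.comap_map_eq f K
  rw [htop, Subgroup.comap_top, sup_eq_left.mpr hK] at h4
  exact h4.symm

theorem mapCard : StMapCard.{u} := by
  intro S _ _ K hZK
  have hker : (QuotientGroup.mk' (Subgroup.center S)).ker = Subgroup.center S :=
    QuotientGroup.ker_mk' _
  constructor
  · have h1 := card_map_of_ker_le (QuotientGroup.mk' (Subgroup.center S)) K (hker.le.trans hZK)
    rw [hker] at h1
    exact h1
  · intro hK
    exact map_ne_top_of_ker_le (QuotientGroup.mk' (Subgroup.center S)) K (hker.le.trans hZK) hK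

end Cfsg.Agent.H35.Uf

namespace Cfsg.Agent.H35.UfMapCardCheck

example : Cfsg.Agent.H77.Uf.StMapCard.{u} := Cfsg.Agent.H35.Uf.mapCard

end Cfsg.Agent.H35.UfMapCardCheck
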