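import Mathlib
import Cfsg.Agent.H58.UqDefs
import Cfsg.Agent.H25.SpSyl

/-!
# UQ-SYLEX (S2950 team project, helper58): a 2-subgroup of `N` lies in a Sylow 2-subgroup of `N`

helper35.  Alias of helper25's landed `Cfsg.Agent.H66.Sp.StSyl`.
-/

set_option autoImplicit false

universe u

namespace Cfsg.Agent.H35.Uq

theorem sylEx : Cfsg.Agent.H58.Uq.StSylEx.{u} := by
  intro G _ _ P N hP hPN
  exact Cfsg.Agent.H25.Sp66.syl P N hP hPN

end Cfsg.Agent.H35.Uq

namespace Cfsg.Agent.H35.UqSylExCheck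

open Cfsg.Agent.H58.Uq

example : StSylEx.{u} := Cfsg.Agent.H35.Uq.sylEx

end Cfsg.Agent.H35.UqSylExCheck
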